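import Mathlib

/-!
Separation of a point from a finite convex hull and nearest points, over a linearly ordered field.
-/

noncomputable section

namespace Groth.Misc7.Chamber

open scoped Classical

universe v x y

variable {R : Type v} [Field R] [LinearOrder R] [IsStrictOrderedRing R]

set_option linter.unusedSectionVars false

theorem cone_separation {κ : Type y} {V : Type x} [AddCommGroup V] [Module R V] (s : Finset κ)
    (g : κ → V) (v : V) :
    (∃ c : κ → R, (∀ i ∈ s, 0 ≤ c i) ∧ ∑ i ∈ s, c i • g i = v) ∨
      ∃ f : Module.Dual R V, (∀ i ∈ s, 0 ≤ f (g i)) ∧ f v < 0 := by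
  induction s using Finset.induction_on generalizing g v with
  | empty =>
    by_cases hv : v = 0
    · exact Or.inl ⟨0, by simp, by simp [hv]⟩
    · obtain ⟨f, hf⟩ : ∃ f : Module.Dual R V, f v ≠ 0 := by
        by_contra h
        push Not at h
        exact hv ((Module.forall_dual_apply_eq_zero_iff R v).1 h)
      refine Or.inr ⟨-(f v) • f, by simp, ?_⟩
      simp only [LinearMap.smul_apply, smul_eq_mul, neg_mul, neg_lt_zero]
      exact mul_self_pos.2 hf
  | insert a s ha ih =>
    rcases ih g v with ⟨c, hc, hsum⟩ | ⟨f, hf, hfv⟩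
    · refine Or.inl ⟨Function.update c a 0, fun i hi => ?_, ?_⟩
      · rcases Finset.mem_insert.1 hi with rfl | hi
        · simp
        · rw [Function.update_of_ne (ne_of_mem_of_not_mem hi ha)]; exact hc i hi
      · rw [Finset.sum_insert ha, Function.update_self, zero_smul, zero_add, ← hsum]
        exact Finset.sum_congr rfl fun i hi => by rw [Function.update_of_ne (ne_of_mem_of_not_mem hi ha)]
    · by_cases hfa : 0 ≤ f (g a)
      · exact Or.inr ⟨f, fun i hi => by
          rcases Finset.mem_insert.1 hi with rfl | hi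
          exacts [hfa, hf i hi], hfv⟩
      · push Not at hfa
        let π : V →ₗ[R] V := LinearMap.id - (f.smulRight ((f (g a))⁻¹ • g a))
        rcases ih (fun i => π (g i)) (π v) with ⟨c, hc, hsum⟩ | ⟨h, hh, hhv⟩
        · set r := f v / f (g a) - ∑ i ∈ s, c i * (f (g i) / f (g a))
          have hr : 0 ≤ r := by
            have h1 : 0 < f v / f (g a) := div_pos_of_neg_of_neg hfv hfa
            have h2 : ∑ i ∈ s, c i * (f (g i) / f (g a)) ≤ 0 := Finset.sum_nonpos fun i hi =>
              mul_nonpos_of_nonneg_of_nonpos (hc i hi)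
                (div_nonpos_of_nonneg_of_nonpos (hf i hi) hfa.le)
            linarith
          refine Or.inl ⟨Function.update c a r, fun i hi => ?_, ?_⟩
          · rcases Finset.mem_insert.1 hi with rfl | hi
            · simpa using hr
            · rw [Function.update_of_ne (ne_of_mem_of_not_mem hi ha)]; exact hc i hi
          · rw [Finset.sum_insert ha, Function.update_self,
              Finset.sum_congr rfl fun i hi => show Function.update c a r i • g i = c i • g i by
                rw [Function.update_of_ne (ne_of_mem_of_not_mem hi ha)]]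
            simp only [π, LinearMap.sub_apply, LinearMap.id_apply, LinearMap.smulRight_apply, smul_sub,
              Finset.sum_sub_distrib, smul_smul] at hsum
            rw [← Finset.sum_smul] at hsum
            simp only [r, div_eq_mul_inv, ← mul_assoc, sub_smul] at *
            rw [← sub_eq_zero] at hsum ⊢
            rw [← hsum]
            abel
        · refine Or.inr ⟨h ∘ₗ π, fun i hi => ?_, hhv⟩
          rcases Finset.mem_insert.1 hi with rfl | hi
          · simp [π, smul_smul, hfa.ne]
          · exact hh i hi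

theorem exists_dual_lt_of_notMem_convexHull {V : Type x} [AddCommGroup V] [Module R V]
    (s : Set V) (hs : s.Finite) (y : V) (hy : y ∉ convexHull R s) :
    ∃ f : Module.Dual R V, ∀ z ∈ s, f y < f z := by
  rcases cone_separation (R := R) hs.toFinset (fun z => (z, (1 : R))) (y, (1 : R)) with
    ⟨c, hc, hsum⟩ | ⟨f, hf, hfy⟩
  · refine absurd ?_ hy
    have h1 := congrArg Prod.snd hsum
    have h2 := congrArg Prod.fst hsum
    simp only [Prod.snd_sum, Prod.fst_sum, Prod.smul_snd, Prod.smul_fst, smul_eq_mul, mul_one] at h1 h2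
    rw [← h2]
    exact (convex_convexHull R s).sum_mem hc h1
      fun i hi => subset_convexHull R s (hs.mem_toFinset.1 hi)
  · refine ⟨f ∘ₗ LinearMap.inl R V R, fun z hz => ?_⟩
    have h1 := hf z (hs.mem_toFinset.2 hz)
    have e : ∀ w : V, f (w, 1) = f (w, 0) + f (0, 1) := fun w => by
      rw [← map_add, Prod.mk_add_mk, add_zero, zero_add]
    rw [e] at h1 hfy
    change f (y, 0) < f (z, 0)
    linarith

theorem exists_min_convexHull {κ : Type y} {V : Type x} [AddCommGroup V] [Module R V]
    (B : LinearMap.BilinForm R V) (hs : ∀ a b, B a b = B b a) (hp : ∀ a, a ≠ 0 → 0 < B a a)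
    (g : κ → V) (s : Finset κ) (hne : s.Nonempty) :
    ∃ y₀ ∈ convexHull R (g '' s), ∀ y ∈ convexHull R (g '' s), B y₀ y₀ ≤ B y y := by
  induction s using Finset.strongInduction with
  | H s ih =>
    obtain ⟨i₀, hi₀⟩ := hne
    set a₀ := g i₀
    set W : Submodule R V := Submodule.span R (Set.range fun i : s => g i - a₀)
    let Φ : W →ₗ[R] Module.Dual R W := (LinearMap.domRestrict₁₂ B W W)
    have : Module.Finite R W := Module.Finite.span_of_finite R (Set.finite_range _)
    have hΦ : Function.Surjective Φ := by
      refine (LinearMap.injective_iff_surjective_of_finrank_eq_finrank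
        (Subspace.dual_finrank_eq (K := R) (V := W)).symm).1 ?_
      rw [injective_iff_map_eq_zero]
      intro w hw
      by_contra hne
      have h1 : B (w : V) (w : V) = 0 := LinearMap.congr_fun hw w
      exact (hp w fun e => hne (Subtype.ext e)).ne' h1
    obtain ⟨w, hw⟩ := hΦ (-(B a₀).domRestrict W)
    obtain ⟨c, hcw⟩ := (Submodule.mem_span_range_iff_exists_fun R).1 w.2
    set p := a₀ + (w : V)
    have horth : ∀ z ∈ W, B p z = 0 := fun z hz => by
      have h1 : B (w : V) z = -(B a₀ z) := LinearMap.congr_fun hw ⟨z, hz⟩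
      rw [map_add, LinearMap.add_apply, h1, add_neg_cancel]
    let μ : s → R := fun i => c i + if (i : κ) = i₀ then 1 - ∑ j, c j else 0
    have hμ1 : ∑ i, μ i = 1 := by
      simp only [μ, Finset.sum_add_distrib]
      rw [Finset.sum_eq_single (⟨i₀, hi₀⟩ : s) (fun i _ h => if_neg fun e => h (Subtype.ext e)) (by simp),
        if_pos rfl]
      ring
    have hμp : ∑ i, μ i • g i = p := by
      simp only [μ, add_smul, Finset.sum_add_distrib, ite_smul, zero_smul]
      rw [Finset.sum_eq_single (⟨i₀, hi₀⟩ : s) (f := fun i : s => if (i : κ) = i₀ then _ else 0)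
        (fun i _ h => if_neg fun e => h (Subtype.ext e)) (by simp), if_pos rfl]
      simp only [p, ← hcw, smul_sub, Finset.sum_sub_distrib, ← Finset.sum_smul, sub_smul, one_smul, a₀]
      abel
    have hsub : ∀ (l : s → R), ∑ i, l i = 1 → ∑ i, l i • g i - p ∈ W := fun l hl => by
      rw [← hμp, ← Finset.sum_sub_distrib]
      have : ∑ i, (l i • g i - μ i • g i) = ∑ i, (l i - μ i) • (g i - a₀) := by
        simp only [smul_sub, Finset.sum_sub_distrib, ← Finset.sum_smul, sub_smul]
        rw [hl, hμ1, sub_self, sub_zero]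
      rw [this]
      exact Submodule.sum_mem _ fun i _ => Submodule.smul_mem _ _ (Submodule.subset_span ⟨i, rfl⟩)
    have hdec : ∀ z, z ∈ W → B (p + z) (p + z) = B p p + B z z := fun z hz => by
      have h := horth z hz
      simp only [map_add, LinearMap.add_apply]
      rw [hs z p, h]; ring
    have hrepr : ∀ y ∈ convexHull R (g '' s), ∃ l : s → R, (∀ i, 0 ≤ l i) ∧ ∑ i, l i = 1 ∧ ∑ i, l i • g i = y := by
      have : convexHull R (g '' s) ⊆ {y | ∃ l : s → R, (∀ i, 0 ≤ l i) ∧ ∑ i, l i = 1 ∧ ∑ i, l i • g i = y} := by
        refine convexHull_min ?_ ?_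
        · rintro _ ⟨i, hi, rfl⟩
          refine ⟨fun j => if j = ⟨i, hi⟩ then 1 else 0, fun j => by dsimp only; split_ifs <;> norm_num, by simp, by simp⟩
        · rintro _ ⟨l, h0, h1, rfl⟩ _ ⟨m, g0, g1, rfl⟩ a b ha hb hab
          refine ⟨a • l + b • m, fun i => ?_, ?_, ?_⟩
          · exact add_nonneg (mul_nonneg ha (h0 i)) (mul_nonneg hb (g0 i))
          · simp only [Pi.add_apply, Pi.smul_apply, smul_eq_mul, Finset.sum_add_distrib, ← Finset.mul_sum, h1, g1, mul_one]
            exact hab
          · simp [Finset.sum_add_distrib, add_smul, Finset.smul_sum, smul_smul]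
      exact fun y hy => this hy
    have hmemhull : ∀ (t : Finset κ) (l : s → R), (∀ i, 0 ≤ l i) → ∑ i, l i = 1 →
        (∀ i : s, (i : κ) ∉ t → l i = 0) → ∑ i, l i • g i ∈ convexHull R (g '' t) := by
      intro t l h0 h1 hz
      have e1 : ∑ i ∈ Finset.univ.filter (fun i : s => (i : κ) ∈ t), l i = 1 := by
        rw [← h1, Finset.sum_filter_of_ne]
        exact fun i _ hi => by_contra fun hn => hi (hz i hn)
      have e2 : ∑ i ∈ Finset.univ.filter (fun i : s => (i : κ) ∈ t), l i • g i = ∑ i, l i • g i := by
        rw [Finset.sum_filter_of_ne]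
        exact fun i _ hi => by_contra fun hn => hi (by rw [hz i hn, zero_smul])
      rw [← e2]
      exact (convex_convexHull R _).sum_mem (fun i _ => h0 i) e1
        fun i hi => subset_convexHull R _ ⟨i, (Finset.mem_filter.1 hi).2, rfl⟩
    by_cases hall : ∀ i, 0 ≤ μ i
    · refine ⟨p, ?_, fun y hy => ?_⟩
      · rw [← hμp]
        exact hmemhull s μ hall hμ1 fun i hi => absurd i.2 hi
      · obtain ⟨l, -, h1, rfl⟩ := hrepr y hy
        have hz := hsub l h1
        have := hdec _ hz
        rw [add_sub_cancel] at this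
        rw [this]
        rcases eq_or_ne (∑ i, l i • g i - p) 0 with h | h
        · rw [h]; simp
        · linarith [hp _ h]
    · push Not at hall
      have step : ∀ y ∈ convexHull R (g '' s), ∃ i ∈ s, ∃ z ∈ convexHull R (g '' (s.erase i : Finset κ)),
          B z z ≤ B y y := by
        intro y hy
        obtain ⟨l, h0, h1, rfl⟩ := hrepr y hy
        obtain ⟨i₁, hi₁, hmin⟩ := Finset.exists_min_image (Finset.univ.filter fun i => μ i < 0)
          (fun i => l i / (l i - μ i)) (by obtain ⟨i, hi⟩ := hall; exact ⟨i, by simp [hi]⟩)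
        have hi₁' : μ i₁ < 0 := (Finset.mem_filter.1 hi₁).2
        set t := l i₁ / (l i₁ - μ i₁)
        have hden : 0 < l i₁ - μ i₁ := by have := h0 i₁; linarith
        have ht0 : 0 ≤ t := div_nonneg (h0 i₁) hden.le
        have ht1 : t ≤ 1 := (div_le_one hden).2 (by linarith)
        let l' : s → R := fun i => l i + t * (μ i - l i)
        have hl'0 : ∀ i, 0 ≤ l' i := fun i => by
          rcases lt_or_ge (μ i) 0 with hi | hi
          · have hden' : 0 < l i - μ i := by have := h0 i; linarith
            have h2 : t ≤ l i / (l i - μ i) := hmin i (by simp [hi])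
            rw [le_div_iff₀ hden'] at h2
            simp only [l']; linarith
          · have h3 := h0 i
            simp only [l']
            nlinarith
        have hl'1 : ∑ i, l' i = 1 := by
          simp only [l', Finset.sum_add_distrib, ← Finset.mul_sum, Finset.sum_sub_distrib, h1, hμ1]
          ring
        have hl'i : l' i₁ = 0 := by
          have : t * (l i₁ - μ i₁) = l i₁ := div_mul_cancel₀ _ hden.ne'
          simp only [l']; linarith
        refine ⟨i₁, i₁.2, ∑ i, l' i • g i, hmemhull _ l' hl'0 hl'1 fun i hi => ?_, ?_⟩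
        · have : i = i₁ := Subtype.ext (by_contra fun e => hi (Finset.mem_erase.2 ⟨e, i.2⟩))
          rw [this, hl'i]
        · have e : ∑ i, l' i • g i = p + (1 - t) • (∑ i, l i • g i - p) := by
            simp only [l', add_smul, Finset.sum_add_distrib, mul_smul, ← Finset.smul_sum, sub_smul,
              Finset.sum_sub_distrib, hμp]
            module
          have hz := hsub l h1
          have h5 := hdec _ hz
          rw [add_sub_cancel] at h5
          rw [e, hdec _ (W.smul_mem _ hz), h5]
          simp only [map_smul, LinearMap.smul_apply, smul_eq_mul]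
          have h6 : 0 ≤ B (∑ i, l i • g i - p) (∑ i, l i • g i - p) := by
            rcases eq_or_ne (∑ i, l i • g i - p) 0 with h | h
            · rw [h]; simp
            · exact (hp _ h).le
          have h7 : (1 - t) * (1 - t) ≤ 1 := by nlinarith
          nlinarith
      have hT : ∀ i ∈ s, (s.erase i).Nonempty → ∃ y₀ ∈ convexHull R (g '' (s.erase i : Finset κ)),
          ∀ y ∈ convexHull R (g '' (s.erase i : Finset κ)), B y₀ y₀ ≤ B y y :=
        fun i hi h => ih _ (Finset.erase_ssubset hi) h
      choose! q hq hqmin using hT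
      have hgood : ∀ i, (∃ z, z ∈ convexHull R (g '' (s.erase i : Finset κ))) → (s.erase i).Nonempty := by
        rintro i ⟨z, hz⟩
        have := convexHull_nonempty_iff.1 ⟨z, hz⟩
        rwa [Set.image_nonempty, Finset.coe_nonempty] at this
      obtain ⟨i, hi, z, hz, -⟩ := step (g i₀) (subset_convexHull R _ ⟨i₀, hi₀, rfl⟩)
      obtain ⟨i₂, hi₂, hmin⟩ := Finset.exists_min_image (s.filter fun i => (s.erase i).Nonempty)
        (fun i => B (q i) (q i)) ⟨i, Finset.mem_filter.2 ⟨hi, hgood i ⟨z, hz⟩⟩⟩
      rw [Finset.mem_filter] at hi₂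
      refine ⟨q i₂, convexHull_mono (Set.image_mono (Finset.coe_subset.2 (Finset.erase_subset _ _)))
        (hq i₂ hi₂.1 hi₂.2), fun y hy => ?_⟩
      obtain ⟨i, hi, z, hz, hle⟩ := step y hy
      exact (hmin i (Finset.mem_filter.2 ⟨hi, hgood i ⟨z, hz⟩⟩)).trans
        ((hqmin i hi (hgood i ⟨z, hz⟩) z hz).trans hle)

end Groth.Misc7.Chamber
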