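import Mathlib
import Groth.Prelude.Def_RootCh

/-!
Chambers and facets of finite reduced crystallographic root systems over an ordered field.
-/

open Module Submodule

noncomputable section

namespace Groth.Misc7.Chamber

open RootCh
open scoped Classical

universe u v w x

variable {ι : Type u} {R : Type v} {M : Type w} {N : Type x}
  [Field R] [LinearOrder R] [IsStrictOrderedRing R]
  [AddCommGroup M] [Module R M] [AddCommGroup N] [Module R N] [Finite ι]
  {P : RootPairing ι R M N} [P.IsRootSystem] [P.IsCrystallographic] [P.IsReduced]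

set_option linter.unusedSectionVars false

/-! ### indices of negative roots -/

variable (P) in
/-- The index of the negative of a root. -/
abbrev ng (i : ι) : ι := P.reflectionPerm i i

lemma root_ng (i : ι) : P.root (ng P i) = -P.root i := by
  rw [P.root_reflectionPerm, P.reflection_apply_self]

lemma coroot_ng (i : ι) : P.coroot (ng P i) = -P.coroot i := by
  rw [P.coroot_reflectionPerm, P.coreflection_apply_self]

lemma root'_ng (i : ι) (y : N) : P.root' (ng P i) y = -P.root' i y := by
  change P.toLinearMap (P.root (ng P i)) y = -P.toLinearMap (P.root i) y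
  rw [root_ng, map_neg, LinearMap.neg_apply]

lemma coroot'_ng (i : ι) (ξ : M) : P.coroot' (ng P i) ξ = -P.coroot' i ξ := by
  change P.toLinearMap ξ (P.coroot (ng P i)) = -P.toLinearMap ξ (P.coroot i)
  rw [coroot_ng, map_neg]

lemma ng_ng (i : ι) : ng P (ng P i) = i :=
  P.root.injective (by rw [root_ng, root_ng, neg_neg])

lemma isPos_ng {b : P.Base} (i : ι) : b.IsPos (ng P i) ↔ ¬ b.IsPos i :=
  RootPairing.Base.IsPos.neg_iff_not b i

/-! ### finiteness -/

variable (P) in
include P in
lemma finite_M : Module.Finite R M :=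
  ⟨⟨(Set.finite_range P.root).toFinset, by
    rw [Set.Finite.coe_toFinset, RootPairing.IsRootSystem.span_root_eq_top (P := P)]⟩⟩

variable (P) in
include P in
lemma finite_N : Module.Finite R N := finite_M P.flip

lemma eq_zero_of_forall_root' {y : N} (h : ∀ i, P.root' i y = 0) : y = 0 := by
  have h2 : P.toLinearMap.flip y = 0 :=
    LinearMap.ext_on_range (RootPairing.IsRootSystem.span_root_eq_top (P := P)) fun i => h i
  apply P.flip.toPerfPair.injective
  rw [map_zero]
  exact h2

/-! ### invariant forms -/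

variable (P) in
/-- A scalar product on `N` invariant under coreflections. -/
structure IsInvForm (B : LinearMap.BilinForm R N) : Prop where
  symm : ∀ y z : N, B y z = B z y
  pos : ∀ y : N, y ≠ 0 → 0 < B y y
  inv : ∀ (i : ι) (y z : N), B (P.coreflection i y) (P.coreflection i z) = B y z

variable (P) in
lemma exists_isInvForm : ∃ B : LinearMap.BilinForm R N, IsInvForm P B := by
  have : Fintype ι := Fintype.ofFinite ι
  refine ⟨P.CorootForm, fun y z => ?_, fun y hy => ?_,
    fun i y z => P.flip.rootForm_reflection_reflection_apply i y z⟩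
  · rw [P.corootForm_apply_apply, P.corootForm_apply_apply]
    exact Finset.sum_congr rfl fun i _ => mul_comm _ _
  · rw [P.corootForm_apply_apply]
    by_contra hc
    push Not at hc
    have h0 := le_antisymm hc (Finset.sum_nonneg fun i _ => mul_self_nonneg _)
    rw [Finset.sum_eq_zero_iff_of_nonneg (fun i _ => mul_self_nonneg _)] at h0
    exact hy (eq_zero_of_forall_root' fun i => mul_self_eq_zero.1 (h0 i (Finset.mem_univ i)))

namespace IsInvForm

variable {B : LinearMap.BilinForm R N}

lemma two_mul_coroot (hB : IsInvForm P B) (i : ι) (z : N) :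
    2 * B (P.coroot i) z = B (P.coroot i) (P.coroot i) * P.root' i z := by
  have h := hB.inv i (P.coroot i) z
  rw [P.coreflection_apply_self, P.coreflection_apply, map_neg, LinearMap.neg_apply, map_sub,
    map_smul, smul_eq_mul] at h
  linear_combination -h

lemma sq_pos (hB : IsInvForm P B) (i : ι) : 0 < B (P.coroot i) (P.coroot i) :=
  hB.pos _ (P.flip.ne_zero i)

/-- `y ↦ B(y, ·)` as a weight. -/
def flat (_hB : IsInvForm P B) : N →ₗ[R] M := P.toPerfPair.symm.toLinearMap ∘ₗ B

lemma pair_flat (hB : IsInvForm P B) (y z : N) : P.toLinearMap (hB.flat y) z = B y z :=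
  LinearMap.congr_fun (P.toLinearMap.apply_symm_toPerfPair_self (B y)) z

lemma coroot'_flat (hB : IsInvForm P B) (i : ι) (y : N) :
    P.coroot' i (hB.flat y) = B (P.coroot i) (P.coroot i) / 2 * P.root' i y := by
  change P.toLinearMap (hB.flat y) (P.coroot i) = _
  rw [hB.pair_flat, hB.symm]
  linear_combination hB.two_mul_coroot i y / 2

lemma sgnVec_flat (hB : IsInvForm P B) (y : N) : sgnVec P (hB.flat y) = cosgnVec P y := by
  funext i
  simp only [sgnVec, cosgnVec, hB.coroot'_flat]
  rw [sign_mul, sign_pos (half_pos (hB.sq_pos i)), one_mul]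

lemma flat_injective (hB : IsInvForm P B) : Function.Injective hB.flat := by
  intro y z h
  by_contra hne
  have h0 : hB.flat (y - z) = 0 := by rw [map_sub, h, sub_self]
  have h1 : P.toLinearMap (hB.flat (y - z)) (y - z) = 0 := by rw [h0]; simp
  rw [hB.pair_flat] at h1
  exact (hB.pos _ (sub_ne_zero.2 hne)).ne' h1

lemma flat_surjective (hB : IsInvForm P B) : Function.Surjective hB.flat := by
  have := finite_M P
  have := finite_N P
  refine (LinearMap.injective_iff_surjective_of_finrank_eq_finrank ?_).1 hB.flat_injective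
  rw [P.toPerfPair.finrank_eq, Module.finrank_linearMap_self]

end IsInvForm

lemma exists_sgnVec_iff (v : ι → SignType) :
    (∃ ξ : M, sgnVec P ξ = v) ↔ ∃ y : N, cosgnVec P y = v := by
  obtain ⟨B, hB⟩ := exists_isInvForm P
  constructor
  · rintro ⟨ξ, rfl⟩
    obtain ⟨y, rfl⟩ := hB.flat_surjective ξ
    exact ⟨y, (hB.sgnVec_flat y).symm⟩
  · rintro ⟨y, rfl⟩
    exact ⟨_, hB.sgnVec_flat y⟩

variable (P) in
/-- The facet whose dual facet contains a given vector of `N`. -/
def ofCovec (y : N) : Facet P := ⟨cosgnVec P y, (exists_sgnVec_iff _).2 ⟨y, rfl⟩⟩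

lemma dualCarrier_nonempty (F : Facet P) : F.dualCarrier.Nonempty :=
  (exists_sgnVec_iff _).1 F.exists_sgnVec_eq

lemma carrier_nonempty (F : Facet P) : F.carrier.Nonempty := F.exists_sgnVec_eq

lemma mem_dualCarrier_iff (F : Facet P) {y : N} : y ∈ F.dualCarrier ↔ ofCovec P y = F := by
  constructor
  · intro h; exact Facet.ext h
  · rintro rfl; rfl

/-! ### expansions -/

/-- Coefficient of the simple root `j` in the root `i`. -/
def coef (b : P.Base) (i : ι) (j : b.support) : R := P.root' i (fundCoweight b j)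

lemma coef_ng (b : P.Base) (i : ι) (j : b.support) : coef b (ng P i) j = -coef b i j :=
  root'_ng i _

lemma coef_self (b : P.Base) (j : b.support) : coef b j j = 1 := root'_fundCoweight_self b j

lemma coef_of_ne (b : P.Base) {j l : b.support} (h : j ≠ l) : coef b j l = 0 :=
  root'_fundCoweight_of_ne b l j h

lemma root'_fundCoweight (b : P.Base) (j l : b.support) :
    P.root' j (fundCoweight b l) = if j = l then 1 else 0 := by
  split_ifs with h
  · subst h; exact root'_fundCoweight_self b j
  · exact root'_fundCoweight_of_ne b l j h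

lemma coroot'_fundWeight (b : P.Base) (j l : b.support) :
    P.coroot' j (fundWeight b l) = if j = l then 1 else 0 := by
  split_ifs with h
  · subst h; exact coroot'_fundWeight_self b j
  · exact coroot'_fundWeight_of_ne b l j h

lemma exists_coef (b : P.Base) (i : ι) :
    ∃ f : b.support → ℤ, P.root i = ∑ j : b.support, (f j : R) • P.root j ∧
      (∀ j, coef b i j = (f j : R)) ∧ b.height i = ∑ j, f j ∧
      ((∀ j, 0 ≤ f j) ∨ ∀ j, f j ≤ 0) := by
  obtain ⟨f, -, hsgn, hsum⟩ := b.exists_root_eq_sum_int i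
  have hroot : P.root i = ∑ j : b.support, (f j : R) • P.root j := by
    rw [hsum, ← Finset.sum_coe_sort b.support]
    exact Finset.sum_congr rfl fun j _ => (Int.cast_smul_eq_zsmul R (f j) _).symm
  refine ⟨fun j => f j, hroot, fun j => ?_, ?_, ?_⟩
  · change P.toLinearMap (P.root i) (fundCoweight b j) = _
    rw [hroot, map_sum, LinearMap.coe_sum, Finset.sum_apply, Finset.sum_eq_single j]
    · rw [map_smul, LinearMap.smul_apply, smul_eq_mul]
      exact (congrArg _ (root'_fundCoweight_self b j)).trans (mul_one _)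
    · intro l _ hl
      rw [map_smul, LinearMap.smul_apply, smul_eq_mul]
      exact (congrArg _ (root'_fundCoweight_of_ne b j l hl)).trans (mul_zero _)
    · simp
  · rw [RootPairing.Base.height_eq_sum hsum, ← Finset.sum_coe_sort b.support]
  · rcases hsgn with h | h
    · exact Or.inl fun j => h.le j
    · exact Or.inr fun j => h.le j

lemma root_expand (b : P.Base) (i : ι) : P.root i = ∑ j : b.support, coef b i j • P.root j := by
  obtain ⟨f, hf, hc, -, -⟩ := exists_coef b i
  rw [hf]; simp only [hc]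

lemma root'_expand (b : P.Base) (i : ι) (y : N) :
    P.root' i y = ∑ j : b.support, coef b i j * P.root' j y := by
  change P.toLinearMap (P.root i) y = _
  rw [root_expand b i, map_sum, LinearMap.coe_sum, Finset.sum_apply]
  exact Finset.sum_congr rfl fun j _ => by rw [map_smul]; rfl

lemma coef_nonneg {b : P.Base} {i : ι} (hi : b.IsPos i) (j : b.support) : 0 ≤ coef b i j := by
  obtain ⟨f, -, hc, hh, hs | hs⟩ := exists_coef b i
  · rw [hc]; exact_mod_cast hs j
  · have : b.height i ≤ 0 := by rw [hh]; exact Finset.sum_nonpos fun l _ => hs l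
    have h' : 0 < b.height i := hi
    omega

lemma exists_coef_pos {b : P.Base} {i : ι} (hi : b.IsPos i) : ∃ j : b.support, 0 < coef b i j := by
  obtain ⟨f, -, hc, hh, -⟩ := exists_coef b i
  by_contra hn
  push Not at hn
  have : ∀ j, f j ≤ 0 := fun j => by have := hn j; rw [hc] at this; exact_mod_cast this
  have : b.height i ≤ 0 := by rw [hh]; exact Finset.sum_nonpos fun l _ => this l
  have h' : 0 < b.height i := hi
  omega

lemma exists_int_coef (b : P.Base) (i : ι) (j : b.support) : ∃ n : ℤ, coef b i j = (n : R) := by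
  obtain ⟨f, -, hc, -, -⟩ := exists_coef b i; exact ⟨_, hc j⟩

lemma root'_pos_iff_isPos {b : P.Base} {y : N} (h : ∀ j : b.support, 0 < P.root' j y) (i : ι) :
    0 < P.root' i y ↔ b.IsPos i := by
  have key : ∀ k, b.IsPos k → 0 < P.root' k y := fun k hk => by
    rw [root'_expand b k]
    obtain ⟨j, hj⟩ := exists_coef_pos hk
    exact Finset.sum_pos' (fun l _ => mul_nonneg (coef_nonneg hk l) (h l).le)
      ⟨j, Finset.mem_univ _, mul_pos hj (h j)⟩
  refine ⟨fun hpos => ?_, key i⟩
  by_contra hn
  have := key _ ((isPos_ng i).2 hn)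
  rw [root'_ng] at this
  linarith

/-- The sum of the fundamental coweights. -/
def rhoCo (b : P.Base) : N := ∑ j : b.support, fundCoweight b j

lemma root'_rhoCo (b : P.Base) (j : b.support) : P.root' j (rhoCo b) = 1 := by
  simp [rhoCo, map_sum, root'_fundCoweight]

lemma rhoCo_pos_iff (b : P.Base) (i : ι) : 0 < P.root' i (rhoCo b) ↔ b.IsPos i :=
  root'_pos_iff_isPos (fun j => by rw [root'_rhoCo]; exact one_pos) i

lemma rhoCo_ne_zero (b : P.Base) (i : ι) : P.root' i (rhoCo b) ≠ 0 := by
  intro h
  by_cases hi : b.IsPos i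
  · exact ((rhoCo_pos_iff b i).2 hi).ne' h
  · have := (rhoCo_pos_iff b _).2 ((isPos_ng i).2 hi)
    rw [root'_ng, h] at this
    simp at this

/-! ### bases -/

lemma exists_base_of_regular (y : N) (hy : ∀ i, P.root' i y ≠ 0) :
    ∃ b : P.Base, ∀ i, b.IsPos i ↔ 0 < P.root' i y := by
  letI := P.indexNeg
  let f : Module.Dual R M := P.toLinearMap.flip y
  have hf : ∀ i, f (P.root i) ≠ 0 := hy
  let s : Set ι := IsAddIndecomposable.baseOf P.root (f : M →+ R)
  have hs : ∀ i, P.root i ∈ AddSubmonoid.closure (P.root '' s) ∨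
      -P.root i ∈ AddSubmonoid.closure (P.root '' s) := fun i =>
    IsAddIndecomposable.mem_or_neg_mem_closure_baseOf P.root (f : M →+ R) i (hf i) (by simp)
  let b := RootPairing.Base.mk' P s (P.linearIndepOn_root_baseOf' f hf) hs
  refine ⟨b, fun i => (root'_pos_iff_isPos (fun j => ?_) i).symm⟩
  have hj : (j : ι) ∈ s := by
    exact (Set.Finite.mem_toFinset _).1 j.2
  exact hj.1

lemma base_ext {b b' : P.Base} (h : b.support = b'.support) : b = b' := by
  cases b; cases b'; congr

lemma height_le_height {b b' : P.Base} (h : ∀ i, b.IsPos i ↔ b'.IsPos i) {i : ι} (hi : b.IsPos i) :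
    b'.height i ≤ b.height i := by
  have hheight : ∀ k, (b.height k : R) = P.root' k (rhoCo b) := fun k => by
    obtain ⟨f, -, hc, hh, -⟩ := exists_coef b k
    rw [hh, root'_expand b k]
    simp [root'_rhoCo, hc]
  obtain ⟨f, hf, hc, hh, -⟩ := exists_coef b' i
  have h1 : (b.height i : R) = ((∑ k : b'.support, f k * b.height k : ℤ) : R) := by
    rw [hheight, root'_expand b' i]
    push_cast
    exact Finset.sum_congr rfl fun k _ => by rw [hc, hheight]
  rw [hh, Int.cast_inj.1 h1]
  refine Finset.sum_le_sum fun k _ => ?_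
  have hk : 0 < b.height k := (h k).2 (RootPairing.Base.isPos_of_mem_support k.2)
  have hfk : (0 : R) ≤ f k := hc k ▸ coef_nonneg ((h i).1 hi) k
  have hfk' : 0 ≤ f k := by exact_mod_cast hfk
  nlinarith

lemma mem_support_of_height_one {b : P.Base} {i : ι} (h : b.height i = 1) : i ∈ b.support := by
  obtain ⟨f, hf, hc, hh, hs | hs⟩ := exists_coef b i
  · obtain ⟨j, hj⟩ : ∃ j, 0 < f j := by
      by_contra hn
      push Not at hn
      have : b.height i ≤ 0 := by rw [hh]; exact Finset.sum_nonpos fun l _ => hn l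
      omega
    have h2 : ∀ l, l ≠ j → f l = 0 := by
      intro l hl
      have h3 : f l + f j ≤ ∑ k, f k := by
        rw [← Finset.sum_pair hl]
        exact Finset.sum_le_sum_of_subset_of_nonneg (Finset.subset_univ _) fun k _ _ => hs k
      have := hs l
      omega
    have h4 : f j = 1 := by
      rw [← h, hh, Finset.sum_eq_single j (fun l _ hl => h2 l hl) (by simp)]
    have : P.root i = P.root j := by
      rw [hf, Finset.sum_eq_single j (fun l _ hl => by rw [h2 l hl]; simp) (by simp), h4]
      simp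
    rw [P.root.injective this]
    exact j.2
  · have : b.height i ≤ 0 := by rw [hh]; exact Finset.sum_nonpos fun l _ => hs l
    omega

lemma base_eq_of_isPos {b b' : P.Base} (h : ∀ i, b.IsPos i ↔ b'.IsPos i) : b = b' := by
  apply base_ext
  ext i
  constructor <;> intro hi
  · have hp : b.IsPos i := RootPairing.Base.isPos_of_mem_support hi
    have h1 := height_le_height h hp
    have h2 : 0 < b'.height i := (h i).1 hp
    rw [RootPairing.Base.height_one_of_mem_support hi] at h1
    exact mem_support_of_height_one (by omega)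
  · have hp : b'.IsPos i := RootPairing.Base.isPos_of_mem_support hi
    have h1 := height_le_height (fun i => (h i).symm) hp
    have h2 : 0 < b.height i := (h i).2 hp
    rw [RootPairing.Base.height_one_of_mem_support hi] at h1
    exact mem_support_of_height_one (by omega)

lemma base_eq_of_isPos_imp {b b' : P.Base} (h : ∀ i, b.IsPos i → b'.IsPos i) : b = b' :=
  base_eq_of_isPos fun i => ⟨h i, fun hi => by
    by_contra hn
    exact (isPos_ng i).1 (h _ ((isPos_ng i).2 hn)) hi⟩

instance : Finite P.Base :=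
  Finite.of_injective (fun b : P.Base => (b.support : Set ι)) fun b b' h =>
    base_ext (Finset.coe_injective h)

/-! ### facets and adjacent chambers -/

lemma sgn_ng (F : Facet P) (i : ι) : F.sgn (ng P i) = -F.sgn i := by
  obtain ⟨ξ, hξ⟩ := F.exists_sgnVec_eq
  rw [← hξ]
  simp [sgnVec, coroot'_ng, Left.sign_neg]

lemma sgn_sign_root' {F : Facet P} {y : N} (hy : y ∈ F.dualCarrier) (i : ι) :
    F.sgn i = SignType.sign (P.root' i y) := (congrFun hy i).symm

lemma sgn_sign_coroot' {F : Facet P} {ξ : M} (hξ : ξ ∈ F.carrier) (i : ι) :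
    F.sgn i = SignType.sign (P.coroot' i ξ) := (congrFun hξ i).symm

lemma sign_eq_one_iff' {a : R} : SignType.sign a = 1 ↔ 0 < a := sign_eq_one_iff

lemma mem_cham_iff (F : Facet P) (b : P.Base) :
    b ∈ F.cham ↔ ∀ j : b.support, F.sgn j ≠ -1 := by
  constructor
  · intro h j hj
    obtain ⟨ξ, hξ⟩ := carrier_nonempty F
    have := h hξ j j.2
    rw [sgn_sign_coroot' hξ, sign_eq_neg_one_iff] at hj
    exact absurd hj (not_lt.2 this)
  · intro h ξ hξ i hi
    by_contra hn
    exact h ⟨i, hi⟩ (by rw [sgn_sign_coroot' hξ, sign_eq_neg_one_iff]; exact not_le.1 hn)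

lemma sgn_ne_neg_one {F : Facet P} {b : P.Base} (hb : b ∈ F.cham) {i : ι} (hi : b.IsPos i) :
    F.sgn i ≠ -1 := by
  obtain ⟨y, hy⟩ := dualCarrier_nonempty F
  rw [sgn_sign_root' hy, ne_eq, sign_eq_neg_one_iff, not_lt, root'_expand b i]
  refine Finset.sum_nonneg fun j _ => mul_nonneg (coef_nonneg hi j) (not_lt.1 fun hn => ?_)
  exact (mem_cham_iff F b).1 hb j (by rw [sgn_sign_root' hy, sign_eq_neg_one_iff]; exact hn)

lemma isPos_of_sgn {F : Facet P} {b : P.Base} (hb : b ∈ F.cham) {i : ι} (hi : F.sgn i = 1) :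
    b.IsPos i := by
  by_contra hn
  exact sgn_ne_neg_one hb ((isPos_ng i).2 hn) (by rw [sgn_ng, hi])

lemma exists_eps {α : Type*} [Finite α] (a c : α → R) :
    ∃ ε : R, 0 < ε ∧ ∀ i, a i ≠ 0 → ε * |c i| < |a i| := by
  have := Fintype.ofFinite α
  classical
  rcases (Finset.univ.filter fun i => a i ≠ 0).eq_empty_or_nonempty with h | h
  · exact ⟨1, one_pos, fun i hi => absurd (h ▸ Finset.mem_filter.2 ⟨Finset.mem_univ i, hi⟩)
      (Finset.notMem_empty i)⟩
  · obtain ⟨i₀, hi₀, hmin⟩ := Finset.exists_min_image _ (fun i => |a i| / (|c i| + 1)) h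
    have h0 := (Finset.mem_filter.1 hi₀).2
    refine ⟨|a i₀| / (|c i₀| + 1), by positivity, fun i hi => ?_⟩
    have hpos : (0 : R) < |c i| + 1 := by positivity
    calc |a i₀| / (|c i₀| + 1) * |c i| ≤ |a i| / (|c i| + 1) * |c i| :=
          mul_le_mul_of_nonneg_right (hmin i (Finset.mem_filter.2 ⟨Finset.mem_univ i, hi⟩)) (abs_nonneg _)
      _ < |a i| / (|c i| + 1) * (|c i| + 1) :=
          mul_lt_mul_of_pos_left (lt_add_one _) (by positivity)
      _ = |a i| := div_mul_cancel₀ _ hpos.ne'

lemma exists_cham_refine (F : Facet P) (c : P.Base) :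
    ∃ b ∈ F.cham, ∀ i, F.sgn i = 0 → (b.IsPos i ↔ c.IsPos i) := by
  obtain ⟨y, hy⟩ := dualCarrier_nonempty F
  obtain ⟨ε, hε, hb⟩ := exists_eps (fun i => P.root' i y) (fun i => P.root' i (rhoCo c))
  have hreg : ∀ i, P.root' i (y + ε • rhoCo c) = P.root' i y + ε * P.root' i (rhoCo c) := fun i => by
    rw [map_add, map_smul, smul_eq_mul]
  obtain ⟨b, hb'⟩ := exists_base_of_regular (P := P) (y + ε • rhoCo c) (fun i => by
    rw [hreg]
    by_cases h0 : P.root' i y = 0
    · rw [h0, zero_add]; exact mul_ne_zero hε.ne' (rhoCo_ne_zero c i)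
    · intro hz
      have h := hb i h0
      rw [eq_neg_of_add_eq_zero_left hz, abs_neg, abs_mul, abs_of_pos hε] at h
      exact lt_irrefl _ h)
  refine ⟨b, (mem_cham_iff F b).2 fun j hj => ?_, fun i hi => ?_⟩
  · have hp := (hb' j).1 (RootPairing.Base.isPos_of_mem_support j.2)
    rw [sgn_sign_root' hy, sign_eq_neg_one_iff] at hj
    rw [hreg] at hp
    have h := hb j hj.ne
    simp only [abs_of_neg hj] at h
    nlinarith [le_abs_self (P.root' j (rhoCo c))]
  · rw [sgn_sign_root' hy, sign_eq_zero_iff] at hi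
    rw [hb', hreg, hi, zero_add, mul_pos_iff_of_pos_left hε, rhoCo_pos_iff]

variable (P) in
lemma nonempty_base : Nonempty P.Base := RootPairing.nonempty_base P

lemma cham_nonempty (F : Facet P) : F.cham.Nonempty := by
  obtain ⟨c⟩ := nonempty_base P
  obtain ⟨b, hb, -⟩ := exists_cham_refine F c
  exact ⟨b, hb⟩

lemma sgn_eq_zero_iff_coef {F : Facet P} {b : P.Base} (hb : b ∈ F.cham) {i : ι} (hi : b.IsPos i) :
    F.sgn i = 0 ↔ ∀ j : b.support, F.sgn j ≠ 0 → coef b i j = 0 := by
  obtain ⟨y, hy⟩ := dualCarrier_nonempty F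
  have hj : ∀ j : b.support, 0 ≤ P.root' j y := fun j => not_lt.1 fun hn =>
    (mem_cham_iff F b).1 hb j (by rw [sgn_sign_root' hy, sign_eq_neg_one_iff]; exact hn)
  rw [sgn_sign_root' hy, sign_eq_zero_iff, root'_expand b i,
    Finset.sum_eq_zero_iff_of_nonneg fun j _ => mul_nonneg (coef_nonneg hi j) (hj j)]
  refine ⟨fun h j hne => ?_, fun h j _ => ?_⟩
  · rw [sgn_sign_root' hy, ne_eq, sign_eq_zero_iff] at hne
    exact (mul_eq_zero.1 (h j (Finset.mem_univ j))).resolve_right hne
  · by_cases hz : P.root' j y = 0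
    · rw [hz, mul_zero]
    · rw [h j (by rwa [sgn_sign_root' hy, ne_eq, sign_eq_zero_iff]), zero_mul]

lemma facet_ext_of_cham {F G : Facet P} {b : P.Base} (hF : b ∈ F.cham) (hG : b ∈ G.cham)
    (h : ∀ j : b.support, F.sgn j = G.sgn j) : F = G := by
  have key : ∀ i, b.IsPos i → F.sgn i = G.sgn i := by
    intro i hi
    have h1 : F.sgn i = 0 ↔ G.sgn i = 0 := by
      rw [sgn_eq_zero_iff_coef hF hi, sgn_eq_zero_iff_coef hG hi]; simp [h]
    have h2 := sgn_ne_neg_one hF hi
    have h3 := sgn_ne_neg_one hG hi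
    revert h1 h2 h3
    generalize F.sgn i = s
    generalize G.sgn i = t
    revert s t
    decide
  apply Facet.ext
  funext i
  by_cases hi : b.IsPos i
  · exact key i hi
  · have := key _ ((isPos_ng i).2 hi)
    rwa [sgn_ng, sgn_ng, neg_inj] at this

lemma cham_ofVec {b : P.Base} {ξ : M} (h : ξ ∈ closedChamber b) : b ∈ (Facet.ofVec P ξ).cham :=
  (mem_cham_iff _ b).2 fun j hj => by
    change SignType.sign (P.coroot' j ξ) = -1 at hj
    rw [sign_eq_neg_one_iff] at hj
    exact absurd hj (not_lt.2 (h j j.2))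

lemma mem_carrier_iff {F : Facet P} {b : P.Base} (hb : b ∈ F.cham) {ξ : M} :
    ξ ∈ F.carrier ↔ ∀ j : b.support, SignType.sign (P.coroot' j ξ) = F.sgn j := by
  refine ⟨fun h j => (sgn_sign_coroot' h j).symm, fun h => ?_⟩
  have hc : b ∈ (Facet.ofVec P ξ).cham := (mem_cham_iff _ b).2 fun j => by
    change SignType.sign (P.coroot' j ξ) ≠ -1
    rw [h]; exact (mem_cham_iff F b).1 hb j
  exact congrArg Facet.sgn (facet_ext_of_cham hc hb h)

lemma mem_dualCarrier_iff_simple {F : Facet P} {b : P.Base} (hb : b ∈ F.cham) {y : N} :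
    y ∈ F.dualCarrier ↔ ∀ j : b.support, SignType.sign (P.root' j y) = F.sgn j := by
  refine ⟨fun h j => (sgn_sign_root' h j).symm, fun h => ?_⟩
  have hc : b ∈ (ofCovec P y).cham := (mem_cham_iff _ b).2 fun j => by
    change SignType.sign (P.root' j y) ≠ -1
    rw [h]; exact (mem_cham_iff F b).1 hb j
  exact congrArg Facet.sgn (facet_ext_of_cham hc hb h)

lemma sgn_simple {F : Facet P} {b : P.Base} (hb : b ∈ F.cham) (j : b.support) :
    F.sgn j = 0 ∨ F.sgn j = 1 := by
  have := (mem_cham_iff F b).1 hb j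
  revert this
  generalize F.sgn j = s
  revert s
  decide

lemma le_iff_of_cham {F G : Facet P} {b : P.Base} (hF : b ∈ F.cham) (hG : b ∈ G.cham) :
    F ≤ G ↔ ∀ j : b.support, G.sgn j ≠ 0 → F.sgn j ≠ 0 := by
  constructor
  · intro h j hj
    rcases (Facet.le_def F G).1 h j with h0 | h0
    · exact absurd h0 hj
    · exact h0 ▸ hj
  · intro h
    have key : ∀ i, b.IsPos i → G.sgn i = 0 ∨ G.sgn i = F.sgn i := by
      intro i hi
      by_cases h0 : G.sgn i = 0
      · exact Or.inl h0
      · refine Or.inr ?_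
        have h1 : F.sgn i ≠ 0 := fun hF0 => h0 ((sgn_eq_zero_iff_coef hG hi).2 fun j hj =>
          (sgn_eq_zero_iff_coef hF hi).1 hF0 j (h j hj))
        have h2 := sgn_ne_neg_one hF hi
        have h3 := sgn_ne_neg_one hG hi
        revert h0 h1 h2 h3
        generalize F.sgn i = s
        generalize G.sgn i = t
        revert s t
        decide
    refine (Facet.le_def F G).2 fun i => ?_
    by_cases hi : b.IsPos i
    · exact key i hi
    · rcases key _ ((isPos_ng i).2 hi) with h0 | h0 <;> rw [sgn_ng] at h0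
      · exact Or.inl (by revert h0; generalize G.sgn i = s; revert s; decide)
      · rw [sgn_ng, neg_inj] at h0; exact Or.inr h0

end Groth.Misc7.Chamber
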