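import Groth.Agent.Misc7.Chamber.Basic
import Groth.Prelude.Def_RootCh2

/-!
Corners of facets, parabolic sets of roots and the sums of roots attached to facets.
-/

open Module Submodule

noncomputable section

namespace Groth.Misc7.Chamber

open RootCh
open scoped Classical

universe u v w x

variable {ι : Type u} {R : Type v} {M : Type w} {N : Type x}
  [Field R] [LinearOrder R] [IsStrictOrderedRing R]
  [AddCommGroup M] [Module R M] [AddCommGroup N] [Module R N] [Finite ι]
  {P : RootPairing ι R M N} [P.IsRootSystem] [P.IsCrystallographic] [P.IsReduced]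

set_option linter.unusedSectionVars false

lemma eq_zero_of_coroot'_simple {b : P.Base} {ξ : M} (h : ∀ j : b.support, P.coroot' j ξ = 0) :
    ξ = 0 := by
  apply P.toPerfPair.injective
  rw [map_zero]
  refine b.toCoweightBasis.ext fun j => ?_
  rw [RootPairing.Base.toCoweightBasis_apply]
  exact h j

lemma eq_zero_of_root'_simple {b : P.Base} {y : N} (h : ∀ j : b.support, P.root' j y = 0) : y = 0 :=
  eq_zero_of_forall_root' fun i => by rw [root'_expand b i]; simp [h]

lemma weight_expand (b : P.Base) (ξ : M) :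
    ξ = ∑ j : b.support, P.coroot' j ξ • fundWeight b j := by
  rw [← sub_eq_zero]
  refine eq_zero_of_coroot'_simple (b := b) fun l => ?_
  simp only [map_sub, map_sum, map_smul, smul_eq_mul, coroot'_fundWeight, mul_ite, mul_one, mul_zero, Finset.sum_ite_eq, Finset.mem_univ, if_true, sub_self]

lemma coweight_expand (b : P.Base) (y : N) :
    y = ∑ j : b.support, P.root' j y • fundCoweight b j := by
  rw [← sub_eq_zero]
  refine eq_zero_of_root'_simple (b := b) fun l => ?_
  simp only [map_sub, map_sum, map_smul, smul_eq_mul, root'_fundCoweight, mul_ite, mul_one, mul_zero, Finset.sum_ite_eq, Finset.mem_univ, if_true, sub_self]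

lemma exists_int_coroot'_fundWeight (b : P.Base) (i : ι) (j : b.support) :
    ∃ n : ℤ, P.coroot' i (fundWeight b j) = (n : R) := by
  suffices ∀ z ∈ Submodule.span ℤ (P.coroot '' b.support),
      ∃ n : ℤ, P.toLinearMap (fundWeight b j) z = (n : R) from
    this _ (b.coroot_mem_span_int i)
  intro z hz
  induction hz using Submodule.span_induction with
  | mem z hz =>
    obtain ⟨l, hl, rfl⟩ := hz
    have := coroot'_fundWeight b ⟨l, hl⟩ j
    refine ⟨if (⟨l, hl⟩ : b.support) = j then 1 else 0, ?_⟩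
    change P.coroot' l (fundWeight b j) = _
    rw [show P.coroot' l (fundWeight b j) = _ from this]
    split_ifs <;> simp
  | zero => exact ⟨0, by simp⟩
  | add z w _ _ hz hw =>
    obtain ⟨n, hn⟩ := hz; obtain ⟨m, hm⟩ := hw
    exact ⟨n + m, by rw [map_add, hn, hm, Int.cast_add]⟩
  | smul c z _ hz =>
    obtain ⟨n, hn⟩ := hz
    exact ⟨c * n, by rw [map_zsmul, hn, zsmul_eq_mul, Int.cast_mul]⟩

lemma fundWeight_injective (b : P.Base) : Function.Injective (fundWeight b) := by
  intro j l h
  by_contra hne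
  have := coroot'_fundWeight b j l
  rw [← h, coroot'_fundWeight, if_pos rfl, if_neg hne] at this
  exact one_ne_zero this

lemma linearIndependent_fundWeight (b : P.Base) : LinearIndependent R (fundWeight b) := by
  rw [Fintype.linearIndependent_iff]
  intro g hg l
  have := congrArg (P.coroot' l) hg
  simp only [map_zero, map_sum, map_smul, smul_eq_mul, coroot'_fundWeight, mul_ite, mul_one, mul_zero, Finset.sum_ite_eq, Finset.mem_univ, if_true] at this
  exact this

lemma mem_closure_iff {F : Facet P} {b : P.Base} (hb : b ∈ F.cham) {η : M} :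
    η ∈ F.closure ↔ ∀ j : b.support, 0 ≤ P.coroot' j η ∧ (F.sgn j = 0 → P.coroot' j η = 0) := by
  constructor
  · intro h j
    have hj := h j
    rcases sgn_simple hb j with h0 | h0 <;> rcases hj with h1 | h1 <;>
      change SignType.sign (P.coroot' j η) = _ at h1
    · exact ⟨(sign_eq_zero_iff.1 h1).ge, fun _ => sign_eq_zero_iff.1 h1⟩
    · rw [h0, sign_eq_zero_iff] at h1; exact ⟨h1.ge, fun _ => h1⟩
    · exact ⟨(sign_eq_zero_iff.1 h1).ge, fun _ => sign_eq_zero_iff.1 h1⟩
    · rw [h0, sign_eq_one_iff] at h1; exact ⟨h1.le, fun h2 => by rw [h0] at h2; exact absurd h2 (by decide)⟩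
  · intro h i
    have hle : F ≤ Facet.ofVec P η := by
      refine (le_iff_of_cham hb (cham_ofVec fun l hl => (h ⟨l, hl⟩).1)).2 fun j hj hF => hj ?_
      change SignType.sign (P.coroot' j η) = 0
      rw [(h j).2 hF, sign_zero]
    exact (Facet.le_def _ _).1 hle i

lemma eq_of_mul_one {m n : ℤ} {r : R} (h1 : 1 = r * (m : R)) (h2 : r = (n : R)) (h3 : 0 ≤ m) :
    r = 1 := by
  rw [h2, ← Int.cast_mul, ← Int.cast_one, Int.cast_inj] at h1
  have : n = 1 := by
    rcases Int.eq_one_or_neg_one_of_mul_eq_one' h1.symm with ⟨h, -⟩ | ⟨-, h⟩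
    · exact h
    · omega
  rw [h2, this, Int.cast_one]

lemma eq_fundWeight_of_mem_closedChamber {b : P.Base} {m : M} (hm : m ∈ fundWeights P)
    (h : m ∈ closedChamber b) : ∃ j : b.support, fundWeight b j = m := by
  obtain ⟨c, k, rfl⟩ := hm
  set w := fundWeight c k
  set G := Facet.ofVec P w
  have hbG : b ∈ G.cham := cham_ofVec h
  have hcG : c ∈ G.cham := cham_ofVec fun l hl => by
    change 0 ≤ P.coroot' (⟨l, hl⟩ : c.support) w
    rw [coroot'_fundWeight]; split_ifs <;> norm_num
  have hwG : w ∈ G.carrier := rfl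
  obtain ⟨j, hj⟩ : ∃ j : b.support, P.coroot' j w ≠ 0 := by
    by_contra hn
    push Not at hn
    have h0 := eq_zero_of_coroot'_simple hn
    have := coroot'_fundWeight c k k
    rw [if_pos rfl, show fundWeight c k = 0 from h0, map_zero] at this
    exact zero_ne_one this
  have hsgn : ∀ l : b.support, l = j → G.sgn l ≠ 0 := fun l hl => by
    subst hl
    change SignType.sign (P.coroot' l w) ≠ 0
    exact fun h0 => hj (sign_eq_zero_iff.1 h0)
  -- the line of the facet
  have hclos : fundWeight b j ∈ G.closure := (mem_closure_iff hbG).2 fun l => by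
    rw [coroot'_fundWeight]
    split_ifs with hl
    · exact ⟨zero_le_one, fun h0 => absurd h0 (hsgn l hl)⟩
    · exact ⟨le_rfl, fun _ => rfl⟩
  have hline : fundWeight b j = P.coroot' k (fundWeight b j) • w := by
    conv_lhs => rw [weight_expand c (fundWeight b j)]
    rw [Finset.sum_eq_single k]
    · intro l _ hl
      have h0 : G.sgn l = 0 := by
        change SignType.sign (P.coroot' l w) = 0
        rw [coroot'_fundWeight, if_neg hl, sign_zero]
      rw [((mem_closure_iff hcG).1 hclos l).2 h0, zero_smul]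
    · simp
  obtain ⟨m, hm⟩ := exists_int_coroot'_fundWeight c (j : ι) k
  obtain ⟨n, hn⟩ := exists_int_coroot'_fundWeight b (k : ι) j
  have h1 := congrArg (P.coroot' j) hline
  rw [coroot'_fundWeight, if_pos rfl, map_smul, smul_eq_mul, show P.coroot' j w = _ from hm] at h1
  have hm0 : (0 : R) ≤ m := hm ▸ h j j.2
  have := eq_of_mul_one h1 hn (by exact_mod_cast hm0)
  exact ⟨j, by rw [hline, this, one_smul]⟩

lemma mem_baseCorners_iff {b : P.Base} {m : M} :
    m ∈ baseCorners b ↔ ∃ j : b.support, fundWeight b j = m := by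
  refine ⟨fun h => eq_fundWeight_of_mem_closedChamber h.1 h.2, ?_⟩
  rintro ⟨j, rfl⟩
  refine ⟨⟨b, j, rfl⟩, fun l hl => ?_⟩
  change 0 ≤ P.coroot' (⟨l, hl⟩ : b.support) _
  rw [coroot'_fundWeight]; split_ifs <;> norm_num

lemma fundWeight_mem_baseCorners (b : P.Base) (j : b.support) : fundWeight b j ∈ baseCorners b :=
  mem_baseCorners_iff.2 ⟨j, rfl⟩

lemma baseCorners_eq (b : P.Base) : baseCorners b = Set.range (fundWeight b) :=
  Set.ext fun _ => mem_baseCorners_iff

lemma closure_subset_closedChamber {F : Facet P} {b : P.Base} (hb : b ∈ F.cham) :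
    F.closure ⊆ closedChamber b := fun _ h l hl => ((mem_closure_iff hb).1 h ⟨l, hl⟩).1

lemma mem_corners_iff {F : Facet P} {b : P.Base} (hb : b ∈ F.cham) {m : M} :
    m ∈ F.corners ↔ ∃ j : b.support, F.sgn j = 1 ∧ fundWeight b j = m := by
  constructor
  · rintro ⟨hm, hmc⟩
    obtain ⟨j, rfl⟩ := eq_fundWeight_of_mem_closedChamber hm (closure_subset_closedChamber hb hmc)
    refine ⟨j, (sgn_simple hb j).resolve_left fun h0 => ?_, rfl⟩
    have := ((mem_closure_iff hb).1 hmc j).2 h0
    rw [coroot'_fundWeight, if_pos rfl] at this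
    exact one_ne_zero this
  · rintro ⟨j, hj, rfl⟩
    refine ⟨⟨b, j, rfl⟩, (mem_closure_iff hb).2 fun l => ?_⟩
    rw [coroot'_fundWeight]
    split_ifs with hl
    · subst hl
      exact ⟨zero_le_one, fun h0 => by rw [hj] at h0; exact absurd h0 (by decide)⟩
    · exact ⟨le_rfl, fun _ => rfl⟩

lemma corners_subset_baseCorners {F : Facet P} {b : P.Base} (hb : b ∈ F.cham) :
    F.corners ⊆ baseCorners b := fun m hm => by
  obtain ⟨j, -, rfl⟩ := (mem_corners_iff hb).1 hm
  exact fundWeight_mem_baseCorners b j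

lemma corners_subset_corners' (F : Facet P) : F.corners ⊆ F.corners' := fun _ hm => by
  obtain ⟨b, hb⟩ := cham_nonempty F
  exact Set.mem_iUnion₂.2 ⟨b, hb, corners_subset_baseCorners hb hm⟩

/-! ### correspondence of weights and coweights -/

lemma IsInvForm.flat_fundCoweight {B : LinearMap.BilinForm R N} (hB : IsInvForm P B) (b : P.Base)
    (j : b.support) :
    hB.flat (fundCoweight b j) = (B (P.coroot j) (P.coroot j) / 2) • fundWeight b j := by
  rw [← sub_eq_zero]
  refine eq_zero_of_coroot'_simple (b := b) fun l => ?_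
  rw [map_sub, map_smul, hB.coroot'_flat, root'_fundCoweight, coroot'_fundWeight, smul_eq_mul]
  split_ifs with h
  · subst h; ring
  · simp

lemma fundCoweight_eq_of_fundWeight_eq {b c : P.Base} {j : b.support} {k : c.support}
    (h : fundWeight c k = fundWeight b j) : fundCoweight c k = fundCoweight b j := by
  obtain ⟨B, hB⟩ := exists_isInvForm P
  set sj := B (P.coroot j) (P.coroot j) / 2
  set sk := B (P.coroot k) (P.coroot k) / 2
  have hj : 0 < sj := half_pos (hB.sq_pos _)
  have hk : 0 < sk := half_pos (hB.sq_pos _)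
  have hprop : fundCoweight c k = (sk / sj) • fundCoweight b j := hB.flat_injective (by
    rw [map_smul, hB.flat_fundCoweight, hB.flat_fundCoweight, smul_smul, h,
      div_mul_cancel₀ _ hj.ne'])
  obtain ⟨n, hn⟩ := exists_int_coef c (j : ι) k
  obtain ⟨m, hm⟩ := exists_int_coef b (k : ι) j
  unfold coef at hn hm
  have hr : sk / sj = n := by
    rw [← hn, hprop, map_smul, root'_fundCoweight, if_pos rfl, smul_eq_mul, mul_one]
  have h1 : 1 = sk / sj * m := by
    rw [← hm, ← smul_eq_mul, ← map_smul, ← hprop, root'_fundCoweight, if_pos rfl]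
  have hmpos : (0 : R) < m := by
    by_contra hc
    nlinarith [div_pos hk hj, not_lt.1 hc]
  rw [hprop, eq_of_mul_one h1 hr (by exact_mod_cast hmpos.le), one_smul]

lemma corr_fundWeight_iff {b : P.Base} {j : b.support} {y : N} :
    Corr P (fundWeight b j) y ↔ y = fundCoweight b j := by
  refine ⟨?_, fun h => ⟨b, j, rfl, h.symm⟩⟩
  rintro ⟨c, k, h1, rfl⟩
  exact fundCoweight_eq_of_fundWeight_eq h1

lemma eq_fundCoweight_of_nonneg {b : P.Base} {x : N} (hx : x ∈ fundCoweights P)
    (h : ∀ l : b.support, 0 ≤ P.root' l x) : ∃ j : b.support, fundCoweight b j = x :=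
  eq_fundWeight_of_mem_closedChamber (P := P.flip) (b := b.flip) hx fun l hl => h ⟨l, hl⟩

lemma fundWeight_eq_of_fundCoweight_eq {b c : P.Base} {j : b.support} {k : c.support}
    (h : fundCoweight c k = fundCoweight b j) : fundWeight c k = fundWeight b j :=
  fundCoweight_eq_of_fundWeight_eq (P := P.flip) (b := b.flip) (c := c.flip) (j := j) (k := k) h

lemma fundCoweight_mem_fundCoweights (b : P.Base) (j : b.support) :
    fundCoweight b j ∈ fundCoweights P := ⟨b.flip, j, rfl⟩

lemma mem_dualClosure_iff {F : Facet P} {b : P.Base} (hb : b ∈ F.cham) {y : N} :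
    y ∈ F.dualClosure ↔ ∀ j : b.support, 0 ≤ P.root' j y ∧ (F.sgn j = 0 → P.root' j y = 0) := by
  constructor
  · intro h j
    have hj := h j
    rcases sgn_simple hb j with h0 | h0 <;> rcases hj with h1 | h1 <;>
      change SignType.sign (P.root' j y) = _ at h1
    · exact ⟨(sign_eq_zero_iff.1 h1).ge, fun _ => sign_eq_zero_iff.1 h1⟩
    · rw [h0, sign_eq_zero_iff] at h1; exact ⟨h1.ge, fun _ => h1⟩
    · exact ⟨(sign_eq_zero_iff.1 h1).ge, fun _ => sign_eq_zero_iff.1 h1⟩
    · rw [h0, sign_eq_one_iff] at h1; exact ⟨h1.le, fun h2 => by rw [h0] at h2; exact absurd h2 (by decide)⟩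
  · intro h i
    have hle : F ≤ ofCovec P y := by
      refine (le_iff_of_cham hb ((mem_cham_iff _ b).2 fun j hj => ?_)).2 fun j hj hF => hj ?_
      · change SignType.sign (P.root' j y) = -1 at hj
        exact absurd (sign_eq_neg_one_iff.1 hj) (not_lt.2 (h j).1)
      · change SignType.sign (P.root' j y) = 0
        rw [(h j).2 hF, sign_zero]
    exact (Facet.le_def _ _).1 hle i

/-! ### facets with prescribed simple signs -/

lemma exists_facet (b : P.Base) (T : b.support → Prop) :
    ∃ G : Facet P, b ∈ G.cham ∧ ∀ j : b.support, G.sgn j = if T j then 1 else 0 := by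
  set ξ : M := ∑ j : b.support, (if T j then (1 : R) else 0) • fundWeight b j with hξ
  have hv : ∀ j : b.support, P.coroot' j ξ = if T j then 1 else 0 := fun j => by
    simp only [hξ, map_sum, map_smul, smul_eq_mul, coroot'_fundWeight, mul_ite, mul_one, mul_zero, Finset.sum_ite_eq, Finset.mem_univ, if_true]
  refine ⟨Facet.ofVec P ξ, cham_ofVec fun l hl => ?_, fun j => ?_⟩
  · change 0 ≤ P.coroot' (⟨l, hl⟩ : b.support) ξ
    rw [hv]; split_ifs <;> norm_num
  · change SignType.sign (P.coroot' j ξ) = _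
    rw [hv]; split_ifs <;> simp

lemma carrier_eq_pos_comb (F : Facet P) :
    F.carrier = {ξ : M | ∃ c : M →₀ R, (c.support : Set M) ⊆ F.corners ∧
      (∀ m ∈ F.corners, 0 < c m) ∧ c.sum (fun m r => r • m) = ξ} := by
  obtain ⟨b, hb⟩ := cham_nonempty F
  ext ξ
  constructor
  · intro hξ
    let c : M →₀ R := ∑ j : b.support, Finsupp.single (fundWeight b j) (P.coroot' j ξ)
    have hc : ∀ l : b.support, c (fundWeight b l) = P.coroot' l ξ := by
      intro l
      rw [Finsupp.finsetSum_apply, Finset.sum_eq_single l]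
      · exact Finsupp.single_eq_same
      · exact fun j _ hj => Finsupp.single_eq_of_ne ((fundWeight_injective b).ne hj.symm)
      · simp
    refine ⟨c, fun m hm => ?_, fun m hm => ?_, ?_⟩
    · rw [Finset.mem_coe, Finsupp.mem_support_iff] at hm
      by_contra hn
      apply hm
      rw [Finsupp.finsetSum_apply]
      refine Finset.sum_eq_zero fun j _ => ?_
      by_cases he : fundWeight b j = m
      · subst he
        have : F.sgn j = 0 := (sgn_simple hb j).resolve_right fun h1 => hn ((mem_corners_iff hb).2 ⟨j, h1, rfl⟩)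
        rw [sgn_sign_coroot' hξ, sign_eq_zero_iff] at this
        rw [this, Finsupp.single_zero, Finsupp.zero_apply]
      · exact Finsupp.single_eq_of_ne (Ne.symm he)
    · obtain ⟨j, hj, rfl⟩ := (mem_corners_iff hb).1 hm
      rw [hc]
      rwa [sgn_sign_coroot' hξ, sign_eq_one_iff] at hj
    · rw [show c = ∑ j : b.support, Finsupp.single (fundWeight b j) (P.coroot' j ξ) from rfl,
        ← Finsupp.sum_finsetSum_index (h := fun (m : M) (r : R) => r • m) (fun m => zero_smul R m)
          (fun m r s => add_smul r s m)]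
      simp only [zero_smul, Finsupp.sum_single_index]
      exact (weight_expand b ξ).symm
  · rintro ⟨c, hc, hpos, rfl⟩
    refine (mem_carrier_iff hb).2 fun l => ?_
    have : P.coroot' l (c.sum fun m r => r • m) = c.sum fun m r => r * P.coroot' l m := by
      simp [Finsupp.sum, map_sum]
    rw [this, Finsupp.sum, Finset.sum_eq_single (fundWeight b l)]
    · rw [coroot'_fundWeight, if_pos rfl, mul_one]
      rcases sgn_simple hb l with h0 | h0
      · rw [h0, sign_eq_zero_iff]
        by_contra hne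
        obtain ⟨j, hj, he⟩ := (mem_corners_iff hb).1 (hc (Finset.mem_coe.2 (Finsupp.mem_support_iff.2 hne)))
        rw [fundWeight_injective b he, h0] at hj
        exact absurd hj (by decide)
      · rw [h0, sign_eq_one_iff]
        exact hpos _ ((mem_corners_iff hb).2 ⟨l, h0, rfl⟩)
    · intro m hm hne
      obtain ⟨j, -, rfl⟩ := (mem_corners_iff hb).1 (hc hm)
      rw [coroot'_fundWeight, if_neg (fun e => hne (by rw [e])), mul_zero]
    · intro h; rw [Finsupp.notMem_support_iff.1 h, zero_mul]

lemma facet_eq_of_corners_eq {F G : Facet P} (h : F.corners = G.corners) : F = G := by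
  obtain ⟨ξ, hξ⟩ := carrier_nonempty F
  have hξ' : ξ ∈ G.carrier := by rwa [carrier_eq_pos_comb, ← h, ← carrier_eq_pos_comb]
  exact Facet.ext (hξ.symm.trans hξ')

lemma mem_span_corners_iff {F : Facet P} {b : P.Base} (hb : b ∈ F.cham) {ξ : M} :
    ξ ∈ Submodule.span R F.corners ↔ ∀ j : b.support, F.sgn j = 0 → P.coroot' j ξ = 0 := by
  constructor
  · intro h j hj
    induction h using Submodule.span_induction with
    | mem m hm =>
      obtain ⟨l, hl, rfl⟩ := (mem_corners_iff hb).1 hm
      rw [coroot'_fundWeight, if_neg]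
      rintro rfl
      rw [hl] at hj
      exact absurd hj (by decide)
    | zero => simp
    | add a c _ _ ha hc => rw [map_add, ha, hc, add_zero]
    | smul r a _ ha => rw [map_smul, ha, smul_zero]
  · intro h
    rw [weight_expand b ξ]
    refine Submodule.sum_mem _ fun j _ => ?_
    rcases sgn_simple hb j with h0 | h0
    · rw [h j h0, zero_smul]; exact Submodule.zero_mem _
    · exact Submodule.smul_mem _ _ (Submodule.subset_span ((mem_corners_iff hb).2 ⟨j, h0, rfl⟩))

lemma mem_span_dualCarrier_iff {F : Facet P} {b : P.Base} (hb : b ∈ F.cham) {y : N} :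
    y ∈ Submodule.span R F.dualCarrier ↔ ∀ j : b.support, F.sgn j = 0 → P.root' j y = 0 := by
  constructor
  · intro h j hj
    induction h using Submodule.span_induction with
    | mem z hz => rwa [sgn_sign_root' hz, sign_eq_zero_iff] at hj
    | zero => simp
    | add a c _ _ ha hc => rw [map_add, ha, hc, add_zero]
    | smul r a _ ha => rw [map_smul, ha, smul_zero]
  · intro h
    obtain ⟨y₀, hy₀⟩ := dualCarrier_nonempty F
    obtain ⟨ε, hε, hbd⟩ := exists_eps (fun j : b.support => P.root' j y₀) (fun j => P.root' j y)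
    have hmem : y₀ + ε • y ∈ F.dualCarrier := (mem_dualCarrier_iff_simple hb).2 fun j => by
      rw [map_add, map_smul, smul_eq_mul]
      rcases sgn_simple hb j with h0 | h0
      · rw [h j h0, mul_zero, add_zero, sgn_sign_root' hy₀]
      · rw [h0, sign_eq_one_iff]
        rw [sgn_sign_root' hy₀, sign_eq_one_iff] at h0
        have h2 := hbd j h0.ne'
        simp only [abs_of_pos h0] at h2
        nlinarith [neg_abs_le (P.root' j y)]
    have := Submodule.sub_mem _ (Submodule.subset_span (R := R) hmem) (Submodule.subset_span (R := R) hy₀)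
    rw [add_sub_cancel_left] at this
    exact (Submodule.smul_mem_iff _ hε.ne').1 this

lemma span_carrier_eq (F : Facet P) :
    Submodule.span R F.carrier = Submodule.span R F.corners := by
  obtain ⟨b, hb⟩ := cham_nonempty F
  refine le_antisymm (Submodule.span_le.2 fun ξ hξ => (mem_span_corners_iff hb).2 fun j hj => ?_)
    (Submodule.span_le.2 fun m hm => ?_)
  · rwa [sgn_sign_coroot' hξ, sign_eq_zero_iff] at hj
  · obtain ⟨ξ, hξ⟩ := carrier_nonempty F
    obtain ⟨l, hl, rfl⟩ := (mem_corners_iff hb).1 hm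
    have hmem : ξ + fundWeight b l ∈ F.carrier := (mem_carrier_iff hb).2 fun j => by
      rw [map_add, coroot'_fundWeight]
      split_ifs with h
      · subst h
        rw [hl, sign_eq_one_iff]
        rw [sgn_sign_coroot' hξ, sign_eq_one_iff] at hl
        linarith
      · rw [add_zero, sgn_sign_coroot' hξ]
    have := Submodule.sub_mem _ (Submodule.subset_span (R := R) hmem) (Submodule.subset_span (R := R) hξ)
    rwa [add_sub_cancel_left] at this

lemma linearIndepOn_corners (F : Facet P) : LinearIndepOn R (fun m : M => m) F.corners := by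
  obtain ⟨b, hb⟩ := cham_nonempty F
  exact ((linearIndependent_fundWeight b).linearIndepOn_id).mono fun m hm => by
    obtain ⟨j, -, rfl⟩ := (mem_corners_iff hb).1 hm
    exact ⟨j, rfl⟩

lemma dualCorners_eq (F : Facet P) :
    F.dualCorners = {y : N | ∃ m ∈ F.corners, Corr P m y} := by
  obtain ⟨b, hb⟩ := cham_nonempty F
  ext y
  constructor
  · rintro ⟨hy, hyc⟩
    obtain ⟨j, rfl⟩ := eq_fundCoweight_of_nonneg hy fun l => ((mem_dualClosure_iff hb).1 hyc l).1
    refine ⟨fundWeight b j, (mem_corners_iff hb).2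
      ⟨j, (sgn_simple hb j).resolve_left fun h0 => ?_, rfl⟩, b, j, rfl, rfl⟩
    have := ((mem_dualClosure_iff hb).1 hyc j).2 h0
    rw [root'_fundCoweight, if_pos rfl] at this
    exact one_ne_zero this
  · rintro ⟨m, hm, hcorr⟩
    obtain ⟨j, hj, rfl⟩ := (mem_corners_iff hb).1 hm
    rw [corr_fundWeight_iff] at hcorr
    subst hcorr
    refine ⟨fundCoweight_mem_fundCoweights b j, (mem_dualClosure_iff hb).2 fun l => ?_⟩
    rw [root'_fundCoweight]
    split_ifs with h
    · subst h
      exact ⟨zero_le_one, fun h0 => by rw [hj] at h0; exact absurd h0 (by decide)⟩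
    · exact ⟨le_rfl, fun _ => rfl⟩

lemma exists_corners_eq_insert (F : Facet P) {m : M} (hm : m ∈ F.corners') :
    ∃ G : Facet P, G.corners = insert m F.corners := by
  obtain ⟨b, hb, hmb⟩ := Set.mem_iUnion₂.1 hm
  obtain ⟨l, rfl⟩ := mem_baseCorners_iff.1 hmb
  obtain ⟨G, hG, hs⟩ := exists_facet b fun j => j = l ∨ F.sgn j = 1
  refine ⟨G, Set.ext fun m => ?_⟩
  rw [mem_corners_iff hG, Set.mem_insert_iff, mem_corners_iff hb]
  constructor
  · rintro ⟨j, hj, rfl⟩
    rw [hs] at hj
    split_ifs at hj with h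
    · exact h.imp (fun e => by rw [e]) fun e => ⟨j, e, rfl⟩
  · rintro (rfl | ⟨j, hj, rfl⟩)
    · exact ⟨l, by rw [hs, if_pos (Or.inl rfl)], rfl⟩
    · exact ⟨j, by rw [hs, if_pos (Or.inr hj)], rfl⟩

lemma exists_corners_eq_diff (F : Facet P) {m : M} (hm : m ∈ F.corners) :
    ∃ G : Facet P, G.corners = F.corners \ {m} := by
  obtain ⟨b, hb⟩ := cham_nonempty F
  obtain ⟨l, -, rfl⟩ := (mem_corners_iff hb).1 hm
  obtain ⟨G, hG, hs⟩ := exists_facet b fun j => j ≠ l ∧ F.sgn j = 1
  refine ⟨G, Set.ext fun m => ?_⟩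
  rw [mem_corners_iff hG, Set.mem_sdiff, mem_corners_iff hb, Set.mem_singleton_iff]
  constructor
  · rintro ⟨j, hj, rfl⟩
    rw [hs] at hj
    split_ifs at hj with h
    · exact ⟨⟨j, h.2, rfl⟩, (fundWeight_injective b).ne h.1⟩
  · rintro ⟨⟨j, hj, rfl⟩, hne⟩
    exact ⟨j, by rw [hs, if_pos ⟨fun e => hne (by rw [e]), hj⟩], rfl⟩

/-! ### parabolic sets -/

lemma corners_eq_nonneg_parab (F : Facet P) :
    F.corners = {m : M | m ∈ fundWeights P ∧ ∀ y : N, Corr P m y → ∀ i ∈ F.parab, 0 ≤ P.root' i y} := by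
  obtain ⟨b, hb⟩ := cham_nonempty F
  ext m
  constructor
  · intro hm
    refine ⟨hm.1, fun y hy i hi => ?_⟩
    obtain ⟨j, hj, rfl⟩ := (mem_corners_iff hb).1 hm
    rw [corr_fundWeight_iff.1 hy]
    by_cases hp : b.IsPos i
    · exact coef_nonneg hp j
    · have hp' : b.IsPos (ng P i) := (isPos_ng i).2 hp
      have h1 := sgn_ne_neg_one hb hp'
      have h2 : F.sgn (ng P i) = 0 := by
        rw [sgn_ng] at h1 ⊢
        have h3 : F.sgn i ≠ -1 := hi
        revert h1 h3
        generalize F.sgn i = s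
        revert s
        decide
      have h4 := (sgn_eq_zero_iff_coef hb hp').1 h2 j (by rw [hj]; decide)
      rw [coef_ng, neg_eq_zero] at h4
      exact h4.ge
  · rintro ⟨⟨c, k, rfl⟩, h⟩
    have hx := h (fundCoweight c k) ⟨c, k, rfl, rfl⟩
    obtain ⟨j, hj⟩ := eq_fundCoweight_of_nonneg (b := b) (fundCoweight_mem_fundCoweights c k)
      fun l => hx l ((mem_cham_iff F b).1 hb l)
    refine (mem_corners_iff hb).2 ⟨j, (sgn_simple hb j).resolve_left fun h0 => ?_,
      (fundWeight_eq_of_fundCoweight_eq hj.symm).symm⟩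
    have := hx (ng P j) (by
      change F.sgn _ ≠ -1
      rw [sgn_ng, h0]; decide)
    rw [root'_ng, ← hj, root'_fundCoweight, if_pos rfl] at this
    linarith

lemma isParabolic_parab (F : Facet P) : IsParabolicSubset P F.parab := by
  obtain ⟨y, hy⟩ := dualCarrier_nonempty F
  have key : ∀ i, i ∈ F.parab ↔ 0 ≤ P.root' i y := fun i => by
    change F.sgn i ≠ -1 ↔ _
    rw [sgn_sign_root' hy, ne_eq, sign_eq_neg_one_iff, not_lt]
  refine ⟨fun i j k hi hj hk => ?_, fun i => ?_⟩
  · rw [key] at hi hj ⊢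
    change 0 ≤ P.toLinearMap (P.root k) y
    rw [hk, map_add, LinearMap.add_apply]
    exact add_nonneg hi hj
  · rw [key, key, show P.root' (P.reflectionPerm i i) y = -P.root' i y from root'_ng i y, neg_nonneg]
    exact le_total _ _

lemma sgn_eq_iff_parab (F : Facet P) (i : ι) :
    (F.sgn i = 1 ↔ ng P i ∉ F.parab) ∧ (F.sgn i = -1 ↔ i ∉ F.parab) := by
  constructor
  · change _ ↔ ¬F.sgn (ng P i) ≠ -1
    rw [not_not, sgn_ng, neg_inj]
  · change _ ↔ ¬F.sgn i ≠ -1
    rw [not_not]

lemma le_iff_parab_subset (F G : Facet P) : F ≤ G ↔ F.parab ⊆ G.parab := by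
  constructor
  · intro h i hi
    change G.sgn i ≠ -1
    rcases (Facet.le_def F G).1 h i with h0 | h0
    · rw [h0]; decide
    · rw [h0]; exact hi
  · intro h
    refine (Facet.le_def F G).2 fun i => ?_
    have h1 : F.sgn i ≠ -1 → G.sgn i ≠ -1 := fun hh => h hh
    have h2 : F.sgn (ng P i) ≠ -1 → G.sgn (ng P i) ≠ -1 := fun hh => h hh
    rw [sgn_ng, sgn_ng] at h2
    revert h1 h2
    generalize F.sgn i = s
    generalize G.sgn i = t
    revert s t
    decide

lemma parab_injective {F G : Facet P} (h : F.parab = G.parab) : F = G :=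
  le_antisymm ((le_iff_parab_subset _ _).2 h.le) ((le_iff_parab_subset _ _).2 h.ge)

lemma isPos_reflect {c : P.Base} (j : c.support) {i : ι} (hi : i ≠ j) (hi' : c.IsPos i) :
    c.IsPos (P.reflectionPerm j i) := hi'.reflectionPerm j.2 hi

lemma root'_coreflection (j i : ι) (y : N) :
    P.root' i (P.coreflection j y) = P.root' (P.reflectionPerm j i) y := by
  change P.toLinearMap (P.root i) (P.coreflection j y) = P.toLinearMap (P.root (P.reflectionPerm j i)) y
  rw [P.root_reflectionPerm, P.coreflection_apply, P.reflection_apply]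
  simp [mul_comm]

lemma exists_adjacent (c : P.Base) (j : c.support) :
    ∃ c' : P.Base, ∀ i, c'.IsPos i ↔ c.IsPos (P.reflectionPerm j i) := by
  obtain ⟨c', hc'⟩ := exists_base_of_regular (P := P) (P.coreflection j (rhoCo c)) fun i => by
    rw [root'_coreflection]; exact rhoCo_ne_zero c _
  exact ⟨c', fun i => by rw [hc', root'_coreflection, rhoCo_pos_iff]⟩

lemma exists_isPos_subset {S : Set ι} (hS : IsParabolicSubset P S) :
    ∃ b : P.Base, ∀ i, b.IsPos i → i ∈ S := by
  have : Nonempty P.Base := nonempty_base P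
  obtain ⟨b, hmax⟩ := Finite.exists_max fun b : P.Base => {i | b.IsPos i ∧ i ∈ S}.ncard
  refine ⟨b, fun i hi => ?_⟩
  have hsimple : ∀ j : b.support, (j : ι) ∈ S := by
    intro j
    by_contra hj
    have hnj : ng P (j : ι) ∈ S := (hS.2 j).resolve_left hj
    obtain ⟨b', hb'⟩ := exists_adjacent b j
    have hsub : insert (ng P (j : ι)) {i | b.IsPos i ∧ i ∈ S} ⊆ {i | b'.IsPos i ∧ i ∈ S} := by
      rintro k (rfl | ⟨hk, hkS⟩)
      · refine ⟨(hb' _).2 ?_, hnj⟩
        rw [P.reflectionPerm_self]
        exact RootPairing.Base.isPos_of_mem_support j.2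
      · exact ⟨(hb' _).2 (isPos_reflect j (fun e => hj (e ▸ hkS)) hk), hkS⟩
    have h1 := Set.ncard_le_ncard hsub
    rw [Set.ncard_insert_of_notMem (fun h => (isPos_ng (b := b) (j : ι)).1 h.1
      (RootPairing.Base.isPos_of_mem_support j.2))] at h1
    have := hmax b'
    omega
  exact hi.induction_on_add (p := fun i => i ∈ S) (fun i hi => hsimple ⟨i, hi⟩)
    fun a l k hk ha hl => hS.1 a l k ha (hsimple ⟨l, hl⟩) hk

lemma exists_parab_eq {S : Set ι} (hS : IsParabolicSubset P S) : ∃ F : Facet P, F.parab = S := by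
  obtain ⟨b, hb⟩ := exists_isPos_subset hS
  obtain ⟨F, hF, hs⟩ := exists_facet b fun j => ng P (j : ι) ∉ S
  obtain ⟨y, hy⟩ := dualCarrier_nonempty F
  have hnn : ∀ i, b.IsPos i → 0 ≤ P.root' i y := fun i hi => by
    have := sgn_ne_neg_one hF hi
    rwa [sgn_sign_root' hy, ne_eq, sign_eq_neg_one_iff, not_lt] at this
  have key : ∀ i, b.IsPos i → b.IsPos i ∧ (ng P i ∈ S ↔ P.root' i y = 0) := by
    intro i hi
    apply hi.induction_on_add (p := fun i => b.IsPos i ∧ (ng P i ∈ S ↔ P.root' i y = 0))
    · intro l hl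
      refine ⟨RootPairing.Base.isPos_of_mem_support hl, ?_⟩
      have h1 := hs ⟨l, hl⟩
      rw [sgn_sign_root' hy] at h1
      by_cases h : ng P l ∈ S
      · rw [if_neg (not_not.2 h), sign_eq_zero_iff] at h1
        exact iff_of_true h h1
      · rw [if_pos h, sign_eq_one_iff] at h1
        exact iff_of_false h h1.ne'
    · rintro a l k hk ⟨hap, ha⟩ hl
      have hlp : b.IsPos l := RootPairing.Base.isPos_of_mem_support hl
      have hl' : ng P l ∈ S ↔ P.root' l y = 0 := by
        have h1 := hs ⟨l, hl⟩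
        rw [sgn_sign_root' hy] at h1
        by_cases h : ng P l ∈ S
        · rw [if_neg (not_not.2 h), sign_eq_zero_iff] at h1
          exact iff_of_true h h1
        · rw [if_pos h, sign_eq_one_iff] at h1
          exact iff_of_false h h1.ne'
      have hroot : P.root' k y = P.root' a y + P.root' l y := by
        change P.toLinearMap (P.root k) y = _
        rw [hk, map_add, LinearMap.add_apply]
      have hnk : P.root (ng P k) = P.root (ng P a) + P.root (ng P l) := by
        rw [root_ng, root_ng, root_ng, hk, neg_add]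
      refine ⟨hap.add hlp hk, fun h => ?_, fun h => ?_⟩
      · have hnl : ng P l ∈ S := hS.1 (ng P k) a (ng P l) h (hb a hap) (by
          rw [hnk, root_ng a]; abel)
        have hna : ng P a ∈ S := hS.1 (ng P k) l (ng P a) h (hb l hlp) (by
          rw [hnk, root_ng l]; abel)
        rw [hroot, ha.1 hna, hl'.1 hnl, add_zero]
      · rw [hroot] at h
        have h1 := hnn a hap
        have h2 := hnn l hlp
        exact hS.1 _ _ _ (ha.2 (by linarith)) (hl'.2 (by linarith)) hnk
  refine ⟨F, Set.ext fun i => ?_⟩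
  change F.sgn i ≠ -1 ↔ _
  rw [sgn_sign_root' hy, ne_eq, sign_eq_neg_one_iff, not_lt]
  by_cases hi : b.IsPos i
  · exact iff_of_true (hnn i hi) (hb i hi)
  · have h1 := key _ ((isPos_ng i).2 hi)
    have h2 := hnn _ h1.1
    rw [ng_ng, root'_ng, neg_eq_zero] at h1
    rw [root'_ng, neg_nonneg] at h2
    rw [h1.2]
    exact ⟨fun h => le_antisymm h2 h, fun h => h.ge⟩

lemma exists_unique_facet_of_parabolic {S : Set ι} (hS : IsParabolicSubset P S) :
    ∃ F : Facet P,
      (F.corners = {m : M | m ∈ fundWeights P ∧ ∀ y : N, Corr P m y → ∀ i ∈ S, 0 ≤ P.root' i y} ∧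
        F.parab = S) ∧
      ∀ G : Facet P,
        G.corners = {m : M | m ∈ fundWeights P ∧ ∀ y : N, Corr P m y → ∀ i ∈ S, 0 ≤ P.root' i y} →
        G = F := by
  obtain ⟨F, rfl⟩ := exists_parab_eq hS
  exact ⟨F, ⟨corners_eq_nonneg_parab F, rfl⟩, fun G hG =>
    facet_eq_of_corners_eq (hG.trans (corners_eq_nonneg_parab F).symm)⟩

/-! ### sums of roots -/

lemma coroot'_sum_eq_zero (l : ι) (T : Finset ι) (hT : ∀ i ∈ T, P.reflectionPerm l i ∈ T) :
    P.coroot' l (∑ i ∈ T, P.root i) = 0 := by
  set σ := ∑ i ∈ T, P.root i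
  have h : P.reflection l σ = σ := by
    rw [map_sum]
    refine Finset.sum_nbij' (fun i => P.reflectionPerm l i) (fun i => P.reflectionPerm l i)
      hT hT (fun i _ => P.reflectionPerm_self l i) (fun i _ => P.reflectionPerm_self l i)
      fun i _ => (P.root_reflectionPerm l i).symm
  rw [P.reflection_apply, sub_eq_self] at h
  exact (smul_eq_zero.1 h).resolve_right (P.ne_zero l)

variable (P) in
/-- The sum of a set of roots. -/
def rootSum (S : Set ι) : M := ∑ i ∈ (Set.toFinite S).toFinset, P.root i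

lemma coroot'_rootSum_posPart_of_zero {F : Facet P} {l : ι} (hl : F.sgn l = 0) :
    P.coroot' l (rootSum P F.posPart) = 0 := by
  refine coroot'_sum_eq_zero l _ fun i hi => ?_
  rw [Set.Finite.mem_toFinset] at hi ⊢
  change F.sgn _ = 1
  obtain ⟨y, hy⟩ := dualCarrier_nonempty F
  rw [sgn_sign_root' hy, sign_eq_zero_iff] at hl
  have hi' : F.sgn i = 1 := hi
  rw [sgn_sign_root' hy] at hi' ⊢
  rw [← root'_coreflection, P.coreflection_apply, hl, zero_smul, sub_zero]
  exact hi'

lemma coroot'_pos_sum {b : P.Base} (j : b.support) :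
    P.coroot' j (∑ i ∈ (Set.toFinite {i | b.IsPos i}).toFinset, P.root i) = 2 := by
  rw [← Finset.add_sum_erase _ _ (a := (j : ι))
    (by rw [Set.Finite.mem_toFinset]; exact RootPairing.Base.isPos_of_mem_support j.2), map_add,
    coroot'_sum_eq_zero (j : ι) _ fun i hi => ?_, add_zero]
  · exact P.root_coroot_two _
  · rw [Finset.mem_erase, Set.Finite.mem_toFinset] at hi ⊢
    refine ⟨fun e => ?_, isPos_reflect j hi.1 hi.2⟩
    have := congrArg (P.reflectionPerm j) e
    rw [P.reflectionPerm_self] at this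
    rw [this] at hi
    exact (isPos_ng (b := b) (j : ι)).1 hi.2 (RootPairing.Base.isPos_of_mem_support j.2)

lemma coroot'_simple_root_nonpos {b : P.Base} {i : ι} (hi : b.IsPos i) {j : b.support}
    (h : coef b i j = 0) : P.coroot' j (P.root i) ≤ 0 := by
  rw [root_expand b i, map_sum]
  refine Finset.sum_nonpos fun l _ => ?_
  rw [map_smul, smul_eq_mul]
  by_cases hl : l = j
  · subst hl; rw [h, zero_mul]
  · refine mul_nonpos_of_nonneg_of_nonpos (coef_nonneg hi l) ?_
    change P.pairing l j ≤ 0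
    rw [← P.algebraMap_pairingIn ℤ, algebraMap_int_eq, eq_intCast]
    exact_mod_cast b.pairingIn_le_zero_of_ne (fun e => hl (Subtype.ext e)) l.2 j.2

lemma coroot'_rootSum_posPart_pos {F : Facet P} {b : P.Base} (hb : b ∈ F.cham) {j : b.support}
    (hj : F.sgn j = 1) : 0 < P.coroot' j (rootSum P F.posPart) := by
  have h2 := coroot'_pos_sum (P := P) j
  rw [← Finset.sum_filter_add_sum_filter_not _ (fun i => F.sgn i = 1), map_add] at h2
  have hS : (Set.toFinite {i | b.IsPos i}).toFinset.filter (fun i => F.sgn i = 1) =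
      (Set.toFinite F.posPart).toFinset := by
    ext i
    simp only [Finset.mem_filter, Set.Finite.mem_toFinset]
    exact ⟨fun h => h.2, fun h => ⟨isPos_of_sgn hb h, h⟩⟩
  rw [hS] at h2
  change 0 < P.coroot' j (∑ i ∈ _, P.root i)
  have : P.coroot' j (∑ i ∈ (Set.toFinite {i | b.IsPos i}).toFinset.filter
      (fun i => ¬ F.sgn i = 1), P.root i) ≤ 0 := by
    rw [map_sum]
    refine Finset.sum_nonpos fun i hi => ?_
    rw [Finset.mem_filter, Set.Finite.mem_toFinset] at hi
    refine coroot'_simple_root_nonpos hi.1 ?_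
    have h0 : F.sgn i = 0 := by
      have h1 := sgn_ne_neg_one hb hi.1
      have h3 := hi.2
      revert h1 h3
      generalize F.sgn i = s
      revert s
      decide
    exact (sgn_eq_zero_iff_coef hb hi.1).1 h0 j (by rw [hj]; decide)
  linarith

lemma rootSum_posPart_mem_carrier (F : Facet P) : rootSum P F.posPart ∈ F.carrier := by
  obtain ⟨b, hb⟩ := cham_nonempty F
  refine (mem_carrier_iff hb).2 fun j => ?_
  rcases sgn_simple hb j with h0 | h0
  · rw [coroot'_rootSum_posPart_of_zero h0, h0, sign_zero]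
  · rw [h0, sign_eq_one_iff]; exact coroot'_rootSum_posPart_pos hb h0

lemma rootSum_leviPart (F : Facet P) : rootSum P F.leviPart = 0 := by
  set T := (Set.toFinite F.leviPart).toFinset
  have hT : ∀ i ∈ T, ng P i ∈ T := fun i hi => by
    rw [Set.Finite.mem_toFinset] at hi ⊢
    change F.sgn (ng P i) = 0
    rw [sgn_ng, show F.sgn i = 0 from hi]
    rfl
  have h : ∑ i ∈ T, P.root i = ∑ i ∈ T, -P.root i :=
    Finset.sum_nbij' (ng P) (ng P) hT hT (fun i _ => ng_ng i) (fun i _ => ng_ng i)
      fun i _ => by rw [root_ng, neg_neg]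
  rw [Finset.sum_neg_distrib, eq_neg_iff_add_eq_zero, ← two_smul R] at h
  exact (smul_eq_zero.1 h).resolve_left two_ne_zero

lemma rootSum_parab (F : Facet P) : rootSum P F.parab = rootSum P F.posPart := by
  have hd : Disjoint (Set.toFinite F.posPart).toFinset (Set.toFinite F.leviPart).toFinset := by
    refine Finset.disjoint_left.2 fun i hi hi' => ?_
    rw [Set.Finite.mem_toFinset] at hi hi'
    exact absurd ((show F.sgn i = 1 from hi).symm.trans (show F.sgn i = 0 from hi')) (by decide)
  have hu : (Set.toFinite F.parab).toFinset =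
      (Set.toFinite F.posPart).toFinset ∪ (Set.toFinite F.leviPart).toFinset := by
    ext i
    simp only [Finset.mem_union, Set.Finite.mem_toFinset]
    change F.sgn i ≠ -1 ↔ F.sgn i = 1 ∨ F.sgn i = 0
    generalize F.sgn i = s
    revert s
    decide
  rw [rootSum, hu, Finset.sum_union hd]
  change rootSum P F.posPart + rootSum P F.leviPart = _
  rw [rootSum_leviPart, add_zero]

lemma mem_psi_iff {F : Facet P} {b : P.Base} (hb : b ∈ F.cham) {j : b.support} (hj : F.sgn j = 1)
    {i : ι} : i ∈ F.Psi (fundWeight b j) ↔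
      coef b i j = 1 ∧ ∀ l : b.support, F.sgn l = 1 → l ≠ j → coef b i l = 0 := by
  constructor
  · rintro ⟨h1, h2⟩
    exact ⟨h1 _ ⟨b, j, rfl, rfl⟩, fun l hl hne =>
      h2 _ ((mem_corners_iff hb).2 ⟨l, hl, rfl⟩) ((fundWeight_injective b).ne hne) _ ⟨b, l, rfl, rfl⟩⟩
  · rintro ⟨h1, h2⟩
    refine ⟨fun x hx => by rw [corr_fundWeight_iff.1 hx]; exact h1, fun m hm hne x hx => ?_⟩
    obtain ⟨l, hl, rfl⟩ := (mem_corners_iff hb).1 hm
    rw [corr_fundWeight_iff.1 hx]
    exact h2 l hl fun e => hne (by rw [e])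

lemma isPos_of_mem_psi {F : Facet P} {b : P.Base} (hb : b ∈ F.cham) {j : b.support} (hj : F.sgn j = 1)
    {i : ι} (hi : i ∈ F.Psi (fundWeight b j)) : b.IsPos i := by
  by_contra hn
  have := coef_nonneg ((isPos_ng i).2 hn) j
  rw [coef_ng, ((mem_psi_iff hb hj).1 hi).1] at this
  linarith

lemma rootSum_psi_mem_span {F : Facet P} {m : M} (hm : m ∈ F.corners) :
    rootSum P (F.Psi m) ∈ Submodule.span R F.corners := by
  obtain ⟨b, hb⟩ := cham_nonempty F
  obtain ⟨j, hj, rfl⟩ := (mem_corners_iff hb).1 hm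
  refine (mem_span_corners_iff hb).2 fun l hl => coroot'_sum_eq_zero (l : ι) _ fun i hi => ?_
  rw [Set.Finite.mem_toFinset, mem_psi_iff hb hj] at hi ⊢
  have hcoef : ∀ q : b.support, F.sgn q = 1 → coef b (P.reflectionPerm l i) q = coef b i q := fun q hq => by
    unfold coef
    rw [← root'_coreflection, P.coreflection_apply, root'_fundCoweight, if_neg, zero_smul, sub_zero]
    rintro rfl
    rw [hl] at hq
    exact absurd hq (by decide)
  exact ⟨by rw [hcoef j hj]; exact hi.1, fun q hq hne => by rw [hcoef q hq]; exact hi.2 q hq hne⟩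

end Groth.Misc7.Chamber
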