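import Groth.Agent.Misc7.Chamber.Corners
import Groth.Agent.Misc7.Chamber.Convex

/-!
Complementary convex solids on root systems, semistability and special facets.
-/

open Module Submodule

noncomputable section

namespace Groth.Misc7.Chamber

open RootCh
open scoped Classical

universe u v w x

variable {ι : Type u} {R : Type v} {M : Type w} {N : Type x}
  [Field R] [LinearOrder R] [IsStrictOrderedRing R]
  [AddCommGroup M] [Module R M] [AddCommGroup N] [Module R N] [Finite ι]
  {P : RootPairing ι R M N} [P.IsRootSystem] [P.IsCrystallographic] [P.IsReduced]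
  {d : P.Base → N}

set_option linter.unusedSectionVars false

lemma pair_rootSum (S : Set ι) (y : N) :
    P.toLinearMap (rootSum P S) y = ∑ i ∈ (Set.toFinite S).toFinset, P.root' i y := by
  rw [rootSum, map_sum, LinearMap.coe_sum, Finset.sum_apply]

lemma deg_eq (F : Facet P) (b : P.Base) :
    F.deg d b = P.toLinearMap (rootSum P F.posPart) (d b) := by
  rw [← rootSum_parab, pair_rootSum]
  rfl

lemma numInv_eq (F : Facet P) (m : M) (b : P.Base) :
    F.numInv d m b = P.toLinearMap (rootSum P (F.Psi m)) (d b) := (pair_rootSum _ _).symm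

lemma pair_expand (b : P.Base) (ξ : M) (y : N) :
    P.toLinearMap ξ y = ∑ j : b.support, P.coroot' j ξ * P.toLinearMap (fundWeight b j) y := by
  conv_lhs => rw [weight_expand b ξ]
  rw [map_sum, LinearMap.coe_sum, Finset.sum_apply]
  exact Finset.sum_congr rfl fun j _ => by rw [map_smul, LinearMap.smul_apply, smul_eq_mul]

lemma eq_zero_of_pair_fundWeight {b : P.Base} {y : N}
    (h : ∀ j : b.support, P.toLinearMap (fundWeight b j) y = 0) : y = 0 :=
  eq_zero_of_forall_root' fun i => by
    change P.toLinearMap (P.root i) y = 0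
    rw [pair_expand b]
    simp [h]

lemma wall_step (hd : IsCCS d) {c c' : P.Base} (j : c.support)
    (hc' : ∀ i, c'.IsPos i ↔ c.IsPos (P.reflectionPerm j i)) :
    ∃ t : R, 0 ≤ t ∧ d c' = d c + t • P.coroot j := by
  have hjp : c.IsPos j := RootPairing.Base.isPos_of_mem_support j.2
  have hiff : ∀ i, (c.IsPos i ∧ ¬ c'.IsPos i) ↔ i = (j : ι) := by
    intro i
    constructor
    · rintro ⟨h1, h2⟩
      by_contra hne
      exact h2 ((hc' i).2 (isPos_reflect j hne h1))
    · rintro rfl
      exact ⟨hjp, fun h => (isPos_ng (b := c) (j : ι)).1 ((hc' _).1 h) hjp⟩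
  have hcommon : baseCorners c ∩ baseCorners c' = fundWeight c '' {l | l ≠ j} := by
    ext m
    constructor
    · rintro ⟨h1, h2⟩
      obtain ⟨l, rfl⟩ := mem_baseCorners_iff.1 h1
      refine ⟨l, fun e => ?_, rfl⟩
      subst e
      -- `-α_j` is a positive root of `c'`
      have hpos : c'.IsPos (ng P (l : ι)) := (hc' _).2 (by rw [P.reflectionPerm_self]; exact hjp)
      obtain ⟨k, hk⟩ := mem_baseCorners_iff.1 h2
      have hG : c' ∈ (Facet.ofVec P (fundWeight c l)).cham := cham_ofVec h2.2
      refine sgn_ne_neg_one hG hpos ?_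
      change SignType.sign (P.coroot' (ng P (l : ι)) (fundWeight c l)) = -1
      rw [coroot'_ng, coroot'_fundWeight, if_pos rfl, sign_eq_neg_one_iff]
      norm_num
    · rintro ⟨l, hl, rfl⟩
      refine ⟨fundWeight_mem_baseCorners c l, ⟨c, l, rfl⟩, fun i hi => ?_⟩
      have hG : c ∈ (Facet.ofVec P (fundWeight c l)).cham := cham_ofVec (fundWeight_mem_baseCorners c l).2
      have hi' : c'.IsPos i := RootPairing.Base.isPos_of_mem_support hi
      by_cases hi2 : c.IsPos i
      · have := sgn_ne_neg_one hG hi2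
        exact not_lt.1 fun hn => this (sign_eq_neg_one_iff.2 hn)
      · have h3 : ng P i = (j : ι) := (hiff _).1 ⟨(isPos_ng i).2 hi2, fun h => (isPos_ng i).1 h hi'⟩
        have h4 := coroot'_ng (P := P) i (fundWeight c l)
        rw [h3, coroot'_fundWeight, if_neg (Ne.symm hl)] at h4
        linarith
  have hcard : (baseCorners c ∩ baseCorners c').ncard + 1 = c.support.card := by
    rw [hcommon, Set.ncard_image_of_injective _ (fundWeight_injective c)]
    have e : {l : c.support | l ≠ j} = (Set.univ : Set c.support) \ {j} := by ext; simp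
    rw [e, Set.ncard_sdiff_singleton_add_one (Set.mem_univ j), Set.ncard_univ, Nat.card_eq_fintype_card,
      Fintype.card_coe]
  refine ⟨P.toLinearMap (fundWeight c j) (d c' - d c), ?_, ?_⟩
  · have h2 := hd.wall_le c c' (j : ι) hcard hiff
    have hv : P.root' j (d c' - d c) = 2 * P.toLinearMap (fundWeight c j) (d c' - d c) := by
      change P.toLinearMap (P.root (j : ι)) _ = _
      rw [pair_expand c, Finset.sum_eq_single j]
      · rw [show P.coroot' (j : ι) (P.root (j : ι)) = 2 from P.root_coroot_two _]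
      · intro l _ hl
        rw [map_sub, hd.corner_eq c c' (fundWeight c l) (fundWeight_mem_baseCorners c l)
          (hcommon.ge ⟨l, hl, rfl⟩).2, sub_self, mul_zero]
      · simp
    rw [map_sub] at hv
    linarith
  · rw [← sub_eq_zero]
    refine eq_zero_of_pair_fundWeight (b := c) fun l => ?_
    rw [map_sub, map_add, map_smul, smul_eq_mul,
      show P.toLinearMap (fundWeight c l) (P.coroot j) = _ from coroot'_fundWeight c j l]
    by_cases hl : j = l
    · subst hl; rw [if_pos rfl, map_sub]; ring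
    · rw [if_neg hl, mul_zero, add_zero, sub_eq_zero]
      exact (hd.corner_eq c c' _ (fundWeight_mem_baseCorners c l) (hcommon.ge ⟨l, Ne.symm hl, rfl⟩).2).symm

lemma pairing_le (hd : IsCCS d) (b c : P.Base) {m : M} (hm : m ∈ baseCorners b) :
    P.toLinearMap m (d b) ≤ P.toLinearMap m (d c) := by
  induction hn : {i | c.IsPos i ∧ ¬ b.IsPos i}.ncard using Nat.strong_induction_on generalizing c with
  | _ n IH =>
    subst hn
    by_cases hall : ∀ j : c.support, b.IsPos j
    · have : c = b := base_eq_of_isPos_imp fun i hi => hi.induction_on_add (p := fun i => b.IsPos i)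
        (fun i hi => hall ⟨i, hi⟩) fun a l k hk ha hl => ha.add (hall ⟨l, hl⟩) hk
      rw [this]
    · push Not at hall
      obtain ⟨j, hj⟩ := hall
      have hjp : c.IsPos j := RootPairing.Base.isPos_of_mem_support j.2
      obtain ⟨c', hc'⟩ := exists_adjacent c j
      obtain ⟨t, ht, htd⟩ := wall_step hd j hc'
      have hlt : {i | c'.IsPos i ∧ ¬ b.IsPos i}.ncard < {i | c.IsPos i ∧ ¬ b.IsPos i}.ncard := by
        refine Set.ncard_lt_ncard ⟨fun i ⟨h1, h2⟩ => ⟨?_, h2⟩, fun hsub => ?_⟩
        · by_contra hn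
          have h3 : c.IsPos (P.reflectionPerm j i) := (hc' i).1 h1
          by_cases he : ng P i = (j : ι)
          · exact h2 (by
              have := (isPos_ng (b := b) i).not.1 (he ▸ hj)
              exact not_not.1 this)
          · have h4 := isPos_reflect j he ((isPos_ng i).2 hn)
            have h5 : P.reflectionPerm (j : ι) (ng P i) = ng P (P.reflectionPerm j i) :=
              P.root.injective (by rw [root_ng, P.root_reflectionPerm, root_ng, map_neg, P.root_reflectionPerm])
            rw [h5] at h4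
            exact (isPos_ng _).1 h4 h3
        · have := (hsub ⟨hjp, hj⟩).1
          exact (isPos_ng (b := c) (j : ι)).1 ((hc' _).1 this) hjp
      have h1 := IH _ hlt c' rfl
      refine h1.trans ?_
      rw [htd, map_add, map_smul, smul_eq_mul]
      have hG : b ∈ (Facet.ofVec P m).cham := cham_ofVec hm.2
      have h6 := sgn_ne_neg_one hG ((isPos_ng (j : ι)).2 hj)
      have h7 : P.toLinearMap m (P.coroot j) ≤ 0 := by
        by_contra hn
        apply h6
        change SignType.sign (P.coroot' (ng P (j : ι)) m) = -1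
        rw [coroot'_ng, sign_eq_neg_one_iff, neg_lt_zero]
        exact not_le.1 hn
      nlinarith

lemma pairing_le_of_mem_solid (hd : IsCCS d) (b : P.Base) {m : M} (hm : m ∈ baseCorners b)
    {y : N} (hy : y ∈ solid d) : P.toLinearMap m (d b) ≤ P.toLinearMap m y := by
  have : solid d ⊆ {z | P.toLinearMap m (d b) ≤ P.toLinearMap m z} :=
    convexHull_min (by rintro _ ⟨c, rfl⟩; exact pairing_le hd b c hm)
      (convex_halfSpace_ge (LinearMap.isLinear _) _)
  exact this hy

lemma pairing_le_solid_of_nonneg (hd : IsCCS d) {b : P.Base} {ξ : M} (hξ : ξ ∈ closedChamber b)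
    {y : N} (hy : y ∈ solid d) : P.toLinearMap ξ (d b) ≤ P.toLinearMap ξ y := by
  rw [pair_expand b ξ, pair_expand b ξ]
  exact Finset.sum_le_sum fun j _ => mul_le_mul_of_nonneg_left
    (pairing_le_of_mem_solid hd b (fundWeight_mem_baseCorners b j) hy) (hξ j j.2)

lemma mem_hyper_iff (hd : IsCCS d) {b : P.Base} {m : M} (hm : m ∈ baseCorners b) {x : N} :
    x ∈ hyper d m ↔ P.toLinearMap m x = P.toLinearMap m (d b) :=
  ⟨fun h => h b hm, fun h c hc => h.trans (hd.corner_eq b c m hm hc)⟩

lemma mem_iInter_hyper_iff (hd : IsCCS d) {F : Facet P} {b : P.Base} (hb : b ∈ F.cham) {x : N} :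
    x ∈ ⋂ m ∈ F.corners, hyper d m ↔
      ∀ j : b.support, F.sgn j = 1 →
        P.toLinearMap (fundWeight b j) x = P.toLinearMap (fundWeight b j) (d b) := by
  rw [Set.mem_iInter₂]
  constructor
  · exact fun h j hj => h _ ((mem_corners_iff hb).2 ⟨j, hj, rfl⟩) b (fundWeight_mem_baseCorners b j)
  · intro h m hm
    obtain ⟨j, hj, rfl⟩ := (mem_corners_iff hb).1 hm
    exact (mem_hyper_iff hd (fundWeight_mem_baseCorners b j)).2 (h j hj)

lemma pair_eq_of_mem_span (hd : IsCCS d) {F : Facet P} {b : P.Base} (hb : b ∈ F.cham)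
    {σ : M} (hσ : σ ∈ Submodule.span R F.corners) {x : N} (hx : x ∈ ⋂ m ∈ F.corners, hyper d m) :
    P.toLinearMap σ x = P.toLinearMap σ (d b) := by
  rw [pair_expand b σ, pair_expand b σ]
  refine Finset.sum_congr rfl fun j _ => ?_
  rcases sgn_simple hb j with h0 | h0
  · rw [(mem_span_corners_iff hb).1 hσ j h0, zero_mul, zero_mul]
  · rw [(mem_iInter_hyper_iff hd hb).1 hx j h0]

lemma pair_eq_cham (hd : IsCCS d) {F : Facet P} {b b' : P.Base} (hb : b ∈ F.cham) (hb' : b' ∈ F.cham)
    {σ : M} (hσ : σ ∈ Submodule.span R F.corners) :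
    P.toLinearMap σ (d b) = P.toLinearMap σ (d b') :=
  pair_eq_of_mem_span hd hb' hσ ((mem_iInter_hyper_iff hd hb').2 fun j hj =>
    hd.corner_eq b b' _
      (corners_subset_baseCorners hb ((mem_corners_iff hb').2 ⟨j, hj, rfl⟩))
      (fundWeight_mem_baseCorners b' j))

lemma rootSum_posPart_mem_span (F : Facet P) :
    rootSum P F.posPart ∈ Submodule.span R F.corners :=
  span_carrier_eq F ▸ Submodule.subset_span (rootSum_posPart_mem_carrier F)

lemma deg_eq_deg (hd : IsCCS d) (F : Facet P) {b b' : P.Base} (hb : b ∈ F.cham) (hb' : b' ∈ F.cham) :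
    F.deg d b = F.deg d b' := by
  rw [deg_eq, deg_eq]; exact pair_eq_cham hd hb hb' (rootSum_posPart_mem_span F)

lemma numInv_eq_numInv (hd : IsCCS d) (F : Facet P) {m : M} (hm : m ∈ F.corners) {b b' : P.Base}
    (hb : b ∈ F.cham) (hb' : b' ∈ F.cham) : F.numInv d m b = F.numInv d m b' := by
  rw [numInv_eq, numInv_eq]; exact pair_eq_cham hd hb hb' (rootSum_psi_mem_span hm)

lemma dualSolid_subset_solid (F : Facet P) : dualSolid d F ⊆ solid d :=
  convexHull_mono (Set.image_subset_range _ _)

lemma dualSolid_eq (hd : IsCCS d) (F : Facet P) :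
    dualSolid d F = (⋂ m ∈ F.corners, hyper d m) ∩ ⋂ m ∈ F.corners', halfClosed d m := by
  apply Set.Subset.antisymm
  · intro y hy
    refine ⟨?_, Set.mem_iInter₂.2 fun m _ c hc =>
      pairing_le_of_mem_solid hd c hc (dualSolid_subset_solid F hy)⟩
    refine Set.mem_iInter₂.2 fun m hm c hc => ?_
    have : dualSolid d F ⊆ {z | P.toLinearMap m z = P.toLinearMap m (d c)} :=
      convexHull_min (by rintro _ ⟨b, hb, rfl⟩; exact hd.corner_eq b c m (corners_subset_baseCorners hb hm) hc)
        (convex_hyperplane (LinearMap.isLinear _) _)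
    exact this hy
  · rintro y ⟨hy1, hy2⟩
    by_contra hy
    obtain ⟨f, hf⟩ := exists_dual_lt_of_notMem_convexHull (d '' F.cham) (Set.toFinite _) y hy
    set η := P.toPerfPair.symm f with hη
    have hηf : ∀ z, P.toLinearMap η z = f z := fun z =>
      LinearMap.congr_fun (P.toLinearMap.apply_symm_toPerfPair_self f) z
    obtain ⟨ξ, hξ⟩ := carrier_nonempty F
    obtain ⟨ε, hε, hbd⟩ := exists_eps (fun i => P.coroot' i ξ) (fun i => P.coroot' i η)
    set η' := ξ + ε • η
    have hle : Facet.ofVec P η' ≤ F := by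
      refine (Facet.le_def _ _).2 fun i => ?_
      by_cases h0 : F.sgn i = 0
      · exact Or.inl h0
      · refine Or.inr ?_
        rw [sgn_sign_coroot' hξ, sign_eq_zero_iff] at h0
        change F.sgn i = SignType.sign (P.coroot' i η')
        rw [sgn_sign_coroot' hξ, map_add, map_smul, smul_eq_mul]
        have h2 := hbd i h0
        rcases lt_or_gt_of_ne h0 with h3 | h3
        · rw [sign_neg h3, sign_neg]
          simp only [abs_of_neg h3] at h2
          nlinarith [le_abs_self (P.coroot' i η)]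
        · rw [sign_pos h3, sign_pos]
          simp only [abs_of_pos h3] at h2
          nlinarith [neg_abs_le (P.coroot' i η)]
    obtain ⟨b, hb⟩ := cham_nonempty (Facet.ofVec P η')
    have hbF : b ∈ F.cham := (mem_cham_iff F b).2 fun j hj => by
      rcases (Facet.le_def _ _).1 hle j with h | h
      · rw [h] at hj; exact absurd hj (by decide)
      · exact (mem_cham_iff _ b).1 hb j (h ▸ hj)
    have h1 : P.toLinearMap η' (d b) ≤ P.toLinearMap η' y := by
      rw [pair_expand b η', pair_expand b η']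
      refine Finset.sum_le_sum fun j _ => mul_le_mul_of_nonneg_left ?_ (hb (show η' ∈ _ from rfl) j j.2)
      exact Set.mem_iInter₂.1 hy2 _ (Set.mem_iUnion₂.2 ⟨b, hbF, fundWeight_mem_baseCorners b j⟩) b
        (fundWeight_mem_baseCorners b j)
    have h2 : P.toLinearMap ξ y = P.toLinearMap ξ (d b) :=
      pair_eq_of_mem_span hd hbF (span_carrier_eq F ▸ Submodule.subset_span hξ) hy1
    have h3 := hf (d b) ⟨b, hbF, rfl⟩
    rw [map_add, map_smul, LinearMap.add_apply, LinearMap.add_apply, LinearMap.smul_apply,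
      LinearMap.smul_apply, h2, smul_eq_mul, smul_eq_mul, hηf, hηf] at h1
    nlinarith

/-! ### semistability -/

lemma origin_corners : (Facet.origin P).corners = (∅ : Set M) := by
  rw [Set.eq_empty_iff_forall_notMem]
  intro m hm
  obtain ⟨b, hb⟩ := cham_nonempty (Facet.origin P)
  obtain ⟨j, hj, rfl⟩ := (mem_corners_iff hb).1 hm
  change SignType.sign (P.coroot' j (0 : M)) = 1 at hj
  rw [map_zero, sign_zero] at hj
  exact absurd hj (by decide)

lemma mem_origin_cham (b : P.Base) : b ∈ (Facet.origin P).cham :=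
  cham_ofVec fun l _ => by rw [map_zero]

lemma isSemistable_iff_corner (hd : IsCCS d) :
    (∀ (b : P.Base), ∀ m ∈ baseCorners b, P.toLinearMap m (d b) ≤ 0) ↔ IsSemistable d := by
  have hsolid : solid d = dualSolid d (Facet.origin P) := by
    have hu : (Facet.origin P).cham = Set.univ := Set.eq_univ_of_forall mem_origin_cham
    rw [dualSolid, hu, Set.image_univ]
    rfl
  constructor
  · intro h
    change (0 : N) ∈ solid d
    rw [hsolid, dualSolid_eq hd, origin_corners]
    refine ⟨by simp, Set.mem_iInter₂.2 fun m _ c hc => ?_⟩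
    rw [map_zero]
    exact h c m hc
  · intro h b m hm
    have := pairing_le_of_mem_solid hd b hm h
    rwa [map_zero] at this

lemma deg_nonpos_of_isSemistable (hd : IsCCS d) (h : IsSemistable d) {F : Facet P} {b : P.Base}
    (hb : b ∈ F.cham) : F.deg d b ≤ 0 := by
  rw [deg_eq]
  have := pairing_le_solid_of_nonneg hd (ξ := rootSum P F.posPart) (hb (rootSum_posPart_mem_carrier F)) h
  rwa [map_zero] at this

lemma isSemistable_of_deg_nonpos (hd : IsCCS d)
    (h : ∀ (F : Facet P) (b : P.Base), F.dim = 1 → b ∈ F.cham → F.deg d b ≤ 0) : IsSemistable d := by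
  rw [← isSemistable_iff_corner hd]
  intro b m hm
  obtain ⟨j, rfl⟩ := mem_baseCorners_iff.1 hm
  obtain ⟨G, hG, hs⟩ := exists_facet b fun l => l = j
  have hj1 : G.sgn j = 1 := by rw [hs, if_pos rfl]
  have hdim : G.dim = 1 := by
    have hc : G.corners = {fundWeight b j} := by
      ext m
      rw [mem_corners_iff hG, Set.mem_singleton_iff]
      constructor
      · rintro ⟨l, hl, rfl⟩
        rw [hs] at hl
        split_ifs at hl with e
        rw [e]
      · rintro rfl; exact ⟨j, hj1, rfl⟩
    rw [Facet.dim, span_carrier_eq, hc, finrank_span_singleton]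
    intro e
    have := coroot'_fundWeight b j j
    rw [if_pos rfl, e, map_zero] at this
    exact zero_ne_one this
  have h1 := h G b hdim hG
  have hmem := rootSum_posPart_mem_span G
  rw [deg_eq, pair_expand b, Finset.sum_eq_single j] at h1
  · exact nonpos_of_mul_nonpos_right h1 (coroot'_rootSum_posPart_pos hG hj1) |>.trans le_rfl
  · intro l _ hl
    rw [(mem_span_corners_iff hG).1 hmem l (by rw [hs, if_neg hl]), zero_mul]
  · simp

/-! ### special facets -/

variable {B : LinearMap.BilinForm R N}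

lemma IsInvForm.flat_mem_carrier (hB : IsInvForm P B) {F : Facet P} {y : N} (hy : y ∈ F.dualCarrier) :
    hB.flat y ∈ F.carrier := (hB.sgnVec_flat y).trans hy

lemma eq_zero_of_span_dualCarrier {F : Facet P} {b : P.Base} (hb : b ∈ F.cham) {y : N}
    (hy : y ∈ Submodule.span R F.dualCarrier)
    (h : ∀ j : b.support, F.sgn j = 1 → P.toLinearMap (fundWeight b j) y = 0) : y = 0 := by
  obtain ⟨B, hB⟩ := exists_isInvForm P
  by_contra hne
  have h1 : P.toLinearMap (hB.flat y) y = 0 := by
    rw [pair_expand b]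
    refine Finset.sum_eq_zero fun j _ => ?_
    rcases sgn_simple hb j with h0 | h0
    · rw [hB.coroot'_flat, (mem_span_dualCarrier_iff hb).1 hy j h0, mul_zero, zero_mul]
    · rw [h j h0, mul_zero]
  rw [hB.pair_flat] at h1
  exact (hB.pos y hne).ne' h1

lemma exists_yLocus_eq (hd : IsCCS d) (F : Facet P) : ∃ y₀ : N, yLocus d F = {y₀} := by
  obtain ⟨b, hb⟩ := cham_nonempty F
  let T : (b.support → R) →ₗ[R] (b.support → R) := LinearMap.pi fun j =>
    if F.sgn j = 1 then (P.toLinearMap (fundWeight b j)) ∘ₗ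
      (Fintype.linearCombination R fun l : b.support => if F.sgn l = 1 then fundCoweight b l else 0) else LinearMap.proj j
  have hT : Function.Injective T := by
    rw [injective_iff_map_eq_zero]
    intro c hc
    set z := Fintype.linearCombination R (fun l : b.support => if F.sgn l = 1 then fundCoweight b l else 0) c with hz
    have hval : ∀ l : b.support, P.root' l z = if F.sgn l = 1 then c l else 0 := fun l => by
      simp only [hz, Fintype.linearCombination_apply, smul_ite, smul_zero, map_sum, apply_ite (P.root' (l : ι)),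
        map_smul, root'_fundCoweight, map_zero, smul_eq_mul, mul_ite, mul_one, mul_zero]
      rw [Finset.sum_eq_single l]
      · simp
      · intro q _ hq; simp [Ne.symm hq]
      · simp
    have hzspan : z ∈ Submodule.span R F.dualCarrier :=
      (mem_span_dualCarrier_iff hb).2 fun j hj => by rw [hval, if_neg (by rw [hj]; decide)]
    have hz0 : z = 0 := eq_zero_of_span_dualCarrier hb hzspan fun j hj => by
      have := congrFun hc j
      simpa [T, hj, ← hz] using this
    funext l
    by_cases hl : F.sgn l = 1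
    · have := hval l
      rw [hz0, map_zero, if_pos hl] at this
      exact this.symm
    · have := congrFun hc l
      simpa [T, hl] using this
  obtain ⟨c, hc⟩ := (LinearMap.injective_iff_surjective.1 hT)
    (fun j => if F.sgn j = 1 then P.toLinearMap (fundWeight b j) (d b) else 0)
  set y₀ := Fintype.linearCombination R (fun l : b.support => if F.sgn l = 1 then fundCoweight b l else 0) c with hy₀
  have hy₀span : y₀ ∈ Submodule.span R F.dualCarrier := by
    rw [hy₀, Fintype.linearCombination_apply]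
    refine Submodule.sum_mem _ fun l _ => Submodule.smul_mem _ _ ?_
    split_ifs with h
    · exact (mem_span_dualCarrier_iff hb).2 fun j hj => by
        rw [root'_fundCoweight, if_neg]
        rintro rfl
        rw [hj] at h
        exact absurd h (by decide)
    · exact Submodule.zero_mem _
  have hy₀h : y₀ ∈ ⋂ m ∈ F.corners, hyper d m := (mem_iInter_hyper_iff hd hb).2 fun j hj => by
    have := congrFun hc j
    simpa [T, hj, ← hy₀] using this
  refine ⟨y₀, Set.eq_singleton_iff_unique_mem.2 ⟨⟨hy₀h, hy₀span⟩, fun y hy => ?_⟩⟩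
  rw [← sub_eq_zero]
  refine eq_zero_of_span_dualCarrier hb (Submodule.sub_mem _ hy.2 hy₀span) fun j hj => ?_
  rw [map_sub, (mem_iInter_hyper_iff hd hb).1 hy.1 j hj, (mem_iInter_hyper_iff hd hb).1 hy₀h j hj, sub_self]

lemma special_point (hd : IsCCS d) {F : Facet P} (hF : IsSpecial d F) :
    ∃ y₀ : N, yLocus d F = {y₀} ∧ F.dualCarrier ∩ dualSolid d F = {y₀} := by
  obtain ⟨y₀, hy₀⟩ := exists_yLocus_eq hd F
  refine ⟨y₀, hy₀, ?_⟩
  have key : ∀ y ∈ F.dualCarrier ∩ dualSolid d F, y = y₀ := fun y hy => by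
    have : y ∈ yLocus d F := ⟨((dualSolid_eq hd F).le hy.2).1, Submodule.subset_span hy.1⟩
    rwa [hy₀] at this
  obtain ⟨y, hy⟩ := hF
  exact Set.eq_singleton_iff_unique_mem.2 ⟨key y hy ▸ hy, key⟩

lemma special_unique_min (hd : IsCCS d) (hB : IsInvForm P B) {F : Facet P} {y₀ : N}
    (hy₀ : y₀ ∈ F.dualCarrier ∩ dualSolid d F) {y : N} (hy : y ∈ solid d) (hne : y ≠ y₀) :
    B y₀ y₀ < B y y := by
  obtain ⟨b, hb⟩ := cham_nonempty F
  have hfl := hB.flat_mem_carrier hy₀.1
  have h1 : P.toLinearMap (hB.flat y₀) y₀ = P.toLinearMap (hB.flat y₀) (d b) :=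
    pair_eq_of_mem_span hd hb (span_carrier_eq F ▸ Submodule.subset_span hfl)
      ((dualSolid_eq hd F).le hy₀.2).1
  have h2 := pairing_le_solid_of_nonneg hd (hb hfl) hy
  rw [← h1, hB.pair_flat, hB.pair_flat] at h2
  have h3 := hB.pos (y - y₀) (sub_ne_zero.2 hne)
  simp only [map_sub, LinearMap.sub_apply] at h3
  rw [hB.symm y y₀] at h3
  linarith

lemma special_of_min (hd : IsCCS d) (hB : IsInvForm P B) {y₀ : N} (hy₀ : y₀ ∈ solid d)
    (hmin : ∀ y ∈ solid d, B y₀ y₀ ≤ B y y) {F : Facet P} (hF : y₀ ∈ F.dualCarrier) :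
    y₀ ∈ F.dualCarrier ∩ dualSolid d F := by
  refine ⟨hF, ?_⟩
  rw [dualSolid_eq hd]
  refine ⟨?_, Set.mem_iInter₂.2 fun m _ c hc => pairing_le_of_mem_solid hd c hc hy₀⟩
  obtain ⟨b, hb⟩ := cham_nonempty F
  -- first order condition at the minimum
  have hfo : ∀ y ∈ solid d, B y₀ y₀ ≤ B y₀ y := by
    intro y hy
    by_contra hlt
    push Not at hlt
    set q := B (y - y₀) (y - y₀)
    have hne : y - y₀ ≠ 0 := sub_ne_zero.2 fun e => by rw [e] at hlt; exact lt_irrefl _ hlt
    have hq : 0 < q := hB.pos _ hne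
    set s := min 1 ((B y₀ y₀ - B y₀ y) / q)
    have hs0 : 0 < s := lt_min one_pos (div_pos (by linarith) hq)
    have hs1 : s ≤ 1 := min_le_left _ _
    have hs2 : s * q ≤ B y₀ y₀ - B y₀ y := (le_div_iff₀ hq).1 (min_le_right _ _)
    have hmem : y₀ + s • (y - y₀) ∈ solid d :=
      (convex_convexHull R _).add_smul_sub_mem hy₀ hy ⟨hs0.le, hs1⟩
    have h1 := hmin _ hmem
    have h2 : B (y₀ + s • (y - y₀)) (y₀ + s • (y - y₀)) =
        B y₀ y₀ + 2 * s * (B y₀ y - B y₀ y₀) + s * s * q := by
      simp only [q, map_add, map_sub, map_smul, LinearMap.add_apply, LinearMap.sub_apply,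
        LinearMap.smul_apply, smul_eq_mul]
      rw [hB.symm y y₀]
      ring
    rw [h2] at h1
    nlinarith
  have hfl := hB.flat_mem_carrier hF
  have h1 : P.toLinearMap (hB.flat y₀) y₀ ≤ P.toLinearMap (hB.flat y₀) (d b) := by
    rw [hB.pair_flat, hB.pair_flat]
    exact hfo _ (subset_convexHull R _ ⟨b, rfl⟩)
  rw [pair_expand b, pair_expand b] at h1
  refine (mem_iInter_hyper_iff hd hb).2 fun j hj => le_antisymm ?_
    (pairing_le_of_mem_solid hd b (fundWeight_mem_baseCorners b j) hy₀)
  have h2 : ∀ l : b.support, P.coroot' l (hB.flat y₀) * P.toLinearMap (fundWeight b l) (d b) ≤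
      P.coroot' l (hB.flat y₀) * P.toLinearMap (fundWeight b l) y₀ := fun l =>
    mul_le_mul_of_nonneg_left (pairing_le_of_mem_solid hd b (fundWeight_mem_baseCorners b l) hy₀)
      (hb hfl l l.2)
  have h3 := (Finset.sum_eq_sum_iff_of_le fun l _ => h2 l).1
    (le_antisymm (Finset.sum_le_sum fun l _ => h2 l) h1) j (Finset.mem_univ j)
  rw [sgn_sign_coroot' hfl, sign_eq_one_iff] at hj
  exact (mul_left_cancel₀ hj.ne' h3).ge

lemma existsUnique_special (hd : IsCCS d) : ∃! F : Facet P, IsSpecial d F := by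
  obtain ⟨B, hB⟩ := exists_isInvForm P
  have : Nonempty P.Base := nonempty_base P
  have : Fintype P.Base := Fintype.ofFinite _
  obtain ⟨y₀, hy₀, hmin⟩ := exists_min_convexHull B hB.symm hB.pos d Finset.univ Finset.univ_nonempty
  rw [Finset.coe_univ, Set.image_univ] at hy₀ hmin
  have hmem := special_of_min hd hB hy₀ hmin (F := ofCovec P y₀) rfl
  refine ⟨ofCovec P y₀, ⟨y₀, hmem⟩, fun G ⟨z, hz⟩ => ?_⟩
  have hzy : z = y₀ := by
    by_contra hne
    have h1 := special_unique_min hd hB hz hy₀ (Ne.symm hne)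
    have h2 := hmin z (dualSolid_subset_solid G hz.2)
    exact absurd h2 (not_le.2 h1)
  subst hzy
  exact ((mem_dualCarrier_iff G).1 hz.1).symm

lemma special_deg_max (hd : IsCCS d) {F : Facet P} {b : P.Base} (hb : b ∈ F.cham) (hF : IsSpecial d F) :
    (∀ (G : Facet P) (c : P.Base), c ∈ G.cham → G.deg d c ≤ F.deg d b) ∧
      ∀ (G : Facet P) (c : P.Base), c ∈ G.cham → G.deg d c = F.deg d b → G ≤ F := by
  obtain ⟨y₀, hy₀F, hy₀S⟩ := hF
  have hFdeg : F.deg d b = ∑ i ∈ (Set.toFinite F.posPart).toFinset, P.root' i y₀ := by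
    rw [deg_eq, ← pair_rootSum]
    exact (pair_eq_of_mem_span hd hb (rootSum_posPart_mem_span F) ((dualSolid_eq hd F).le hy₀S).1).symm
  have hFsum : F.deg d b = ∑ i ∈ (Set.toFinite (Set.univ : Set ι)).toFinset, max (P.root' i y₀) 0 := by
    rw [hFdeg]
    refine (Finset.sum_congr rfl fun i hi => ?_).trans (Finset.sum_subset (by intro i _; simp) fun i _ hi => ?_)
    · rw [Set.Finite.mem_toFinset] at hi
      have : F.sgn i = 1 := hi
      rw [sgn_sign_root' hy₀F, sign_eq_one_iff] at this
      exact (max_eq_left this.le).symm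
    · rw [Set.Finite.mem_toFinset] at hi
      have : ¬ F.sgn i = 1 := hi
      rw [sgn_sign_root' hy₀F, sign_eq_one_iff, not_lt] at this
      exact max_eq_right this
  have hG : ∀ (G : Facet P) (c : P.Base), c ∈ G.cham →
      G.deg d c ≤ ∑ i ∈ (Set.toFinite (Set.univ : Set ι)).toFinset,
        if G.sgn i = 1 then P.root' i y₀ else 0 := by
    intro G c hc
    have h1 := pairing_le_solid_of_nonneg hd (hc (rootSum_posPart_mem_carrier G)) (dualSolid_subset_solid F hy₀S)
    rw [deg_eq]
    refine h1.trans (le_of_eq ?_)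
    rw [pair_rootSum, ← Finset.sum_filter]
    refine Finset.sum_congr ?_ fun _ _ => rfl
    ext i; simp [Facet.posPart]
  have hle : ∀ (G : Facet P) (i : ι), (if G.sgn i = 1 then P.root' i y₀ else 0) ≤ max (P.root' i y₀) 0 := by
    intro G i
    split_ifs
    · exact le_max_left _ _
    · exact le_max_right _ _
  refine ⟨fun G c hc => ?_, fun G c hc heq => ?_⟩
  · rw [hFsum]
    exact (hG G c hc).trans (Finset.sum_le_sum fun i _ => hle G i)
  · have h1 := hG G c hc
    rw [heq, hFsum] at h1
    have h2 := (Finset.sum_eq_sum_iff_of_le fun i _ => hle G i).1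
      (le_antisymm (Finset.sum_le_sum fun i _ => hle G i) h1)
    have key : ∀ i, F.sgn i = 1 → G.sgn i = 1 := by
      intro i hi
      rw [sgn_sign_root' hy₀F, sign_eq_one_iff] at hi
      have h3 := h2 i (by simp)
      by_contra hn
      rw [if_neg hn, max_eq_left hi.le] at h3
      exact hi.ne h3
    refine (Facet.le_def G F).2 fun i => ?_
    have k1 := key i
    have k2 := key (ng P i)
    rw [sgn_ng, sgn_ng] at k2
    revert k1 k2
    generalize F.sgn i = s
    generalize G.sgn i = t
    revert s t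
    decide

lemma special_of_max (hd : IsCCS d) (F : Facet P) (b : P.Base) (hb : b ∈ F.cham)
    (hmax : ∀ (G : Facet P) (c : P.Base), c ∈ G.cham → G.deg d c ≤ F.deg d b)
    (hmaxl : ∀ (G : Facet P) (c : P.Base), c ∈ G.cham → G.deg d c = F.deg d b → F ≤ G → G = F) :
    IsSpecial d F := by
  obtain ⟨F₀, hF₀, -⟩ := existsUnique_special hd
  obtain ⟨c, hc⟩ := cham_nonempty F₀
  have h := special_deg_max hd hc hF₀
  have heq : F₀.deg d c = F.deg d b := le_antisymm (hmax _ _ hc) (h.1 _ _ hb)
  exact hmaxl F₀ c hc heq (h.2 F b hb heq.symm) ▸ hF₀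

lemma numInv_pos_iff (hd : IsCCS d) (F : Facet P) :
    ((∀ m ∈ F.corners, ∀ b ∈ F.cham, 0 < F.numInv d m b) ∧
        (dualSolid d F ∩ (Submodule.span R F.dualCarrier : Set N)).Nonempty) ↔
      IsSpecial d F := by
  obtain ⟨b₀, hb₀⟩ := cham_nonempty F
  -- value of the invariant at a point of the dual solid in the span
  have key : ∀ y ∈ dualSolid d F, y ∈ Submodule.span R F.dualCarrier → ∀ j : b₀.support, F.sgn j = 1 →
      ∀ b ∈ F.cham, ∃ k : ℕ, 0 < k ∧ F.numInv d (fundWeight b₀ j) b = (k : R) * P.root' j y := by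
    intro y hy hys j hj b hb
    have hm : fundWeight b₀ j ∈ F.corners := (mem_corners_iff hb₀).2 ⟨j, hj, rfl⟩
    rw [numInv_eq, ← pair_eq_of_mem_span hd hb (rootSum_psi_mem_span hm) ((dualSolid_eq hd F).le hy).1,
      pair_rootSum]
    refine ⟨(Set.toFinite (F.Psi (fundWeight b₀ j))).toFinset.card, Finset.card_pos.2 ⟨(j : ι), ?_⟩, ?_⟩
    · rw [Set.Finite.mem_toFinset, mem_psi_iff hb₀ hj]
      exact ⟨coef_self b₀ j, fun l _ hl => coef_of_ne b₀ (Ne.symm hl)⟩
    · rw [← nsmul_eq_mul, ← Finset.sum_const]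
      refine Finset.sum_congr rfl fun i hi => ?_
      rw [Set.Finite.mem_toFinset, mem_psi_iff hb₀ hj] at hi
      rw [root'_expand b₀ i, Finset.sum_eq_single j]
      · rw [hi.1, one_mul]
      · intro l _ hl
        rcases sgn_simple hb₀ l with h0 | h0
        · rw [(mem_span_dualCarrier_iff hb₀).1 hys l h0, mul_zero]
        · rw [hi.2 l h0 hl, zero_mul]
      · simp
  constructor
  · rintro ⟨h1, y, hyS, hys⟩
    refine ⟨y, (mem_dualCarrier_iff_simple hb₀).2 fun j => ?_, hyS⟩
    rcases sgn_simple hb₀ j with h0 | h0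
    · rw [(mem_span_dualCarrier_iff hb₀).1 hys j h0, h0, sign_zero]
    · rw [h0, sign_eq_one_iff]
      obtain ⟨k, hk, he⟩ := key y hyS hys j h0 b₀ hb₀
      have h2 := h1 _ ((mem_corners_iff hb₀).2 ⟨j, h0, rfl⟩) b₀ hb₀
      rw [he] at h2
      exact pos_of_mul_pos_right h2 (Nat.cast_nonneg k)
  · rintro ⟨y, hy, hyS⟩
    refine ⟨fun m hm b hb => ?_, y, hyS, Submodule.subset_span hy⟩
    obtain ⟨j, hj, rfl⟩ := (mem_corners_iff hb₀).1 hm
    obtain ⟨k, hk, he⟩ := key y hyS (Submodule.subset_span hy) j hj b hb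
    rw [he]
    rw [sgn_sign_root' hy, sign_eq_one_iff] at hj
    exact mul_pos (Nat.cast_pos.2 hk) hj

end Groth.Misc7.Chamber
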